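import Cfsg.Agent.Lib.AutPSL.Main
import Cfsg.Agent.Lib.AutPSL.Count
import Cfsg.Agent.Lib.AutPSLOrder.Main
import Mathlib.FieldTheory.Finite.Basic

/-!
# Small matrices in `SL₂` and semilinear automorphisms

* `U a`, `W`, `Z`, `D a` with the orders of their classes
* `semiOne` : the field automorphisms acting on `PSL₂`
* `exists_conj_semi` : `semi g σ` and `semi h σ` differ by an inner one when `det h / det g` is a square
-/

set_option autoImplicit false
set_option linter.unusedSectionVars false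
set_option linter.unusedSimpArgs false
set_option linter.style.haveILetI false

open Matrix
open scoped MatrixGroups

namespace Cfsg.Agent.ThreeOrders

open AutPSL

variable {F : Type} [Field F]

/-- `[[1, a], [0, 1]]`. -/
def U (a : F) : Matrix.SpecialLinearGroup (Fin 2) F :=
  ⟨!![1, a; 0, 1], by simp [Matrix.det_fin_two]⟩

/-- `[[0, 1], [-1, 0]]`. -/
def W : Matrix.SpecialLinearGroup (Fin 2) F :=
  ⟨!![0, 1; -1, 0], by simp [Matrix.det_fin_two]⟩

/-- `[[0, 1], [-1, -1]]`. -/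
def Z : Matrix.SpecialLinearGroup (Fin 2) F :=
  ⟨!![0, 1; -1, -1], by simp [Matrix.det_fin_two]⟩

/-- `diag (a, a⁻¹)`. -/
def D (a : Fˣ) : Matrix.SpecialLinearGroup (Fin 2) F :=
  ⟨!![(a : F), 0; 0, ((a⁻¹ : Fˣ) : F)], by simp [Matrix.det_fin_two]⟩

theorem U_coe (a : F) : (U a : Matrix (Fin 2) (Fin 2) F) = !![1, a; 0, 1] := rfl

theorem W_coe : ((W : Matrix.SpecialLinearGroup (Fin 2) F) : Matrix (Fin 2) (Fin 2) F) = !![0, 1; -1, 0] := rfl

theorem Z_coe : ((Z : Matrix.SpecialLinearGroup (Fin 2) F) : Matrix (Fin 2) (Fin 2) F) = !![0, 1; -1, -1] := rfl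

theorem D_coe (a : Fˣ) : (D a : Matrix (Fin 2) (Fin 2) F) = !![(a : F), 0; 0, ((a⁻¹ : Fˣ) : F)] := rfl

theorem U_add (a b : F) : U (a + b) = U a * U b :=
  Subtype.ext (by simp [U_coe, Matrix.mul_fin_two, add_comm])

theorem U_zero : U (0 : F) = 1 := Subtype.ext (by simp [U, Matrix.one_fin_two])

theorem pj_eq_one {s : Matrix.SpecialLinearGroup (Fin 2) F} (h : proj (Fin 2) F s = 1) :
    (s : Matrix (Fin 2) (Fin 2) F) 0 1 = 0 := by
  obtain ⟨c, hc, hs⟩ := proj_eq_iff.1 (h.trans (map_one _).symm)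
  have h01 := congrFun (congrFun hs 0) 1
  have hc0 : c ≠ 0 := fun e => by simp [e] at hc
  simpa [hc0] using h01

theorem pj_U_eq_one {a : F} (h : proj (Fin 2) F (U a) = 1) : a = 0 := by
  simpa [U] using pj_eq_one h

theorem orderOf_pj_U (l : ℕ) [hl : Fact l.Prime] [CharP F l] {a : F} (ha : a ≠ 0) :
    orderOf (proj (Fin 2) F (U a)) = l := by
  refine orderOf_eq_prime ?_ fun e => ha (pj_U_eq_one e)
  have h : ∀ k : ℕ, U a ^ k = U ((k : F) * a) := fun k => by
    induction k with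
    | zero => rw [pow_zero, Nat.cast_zero, zero_mul, U_zero]
    | succ k ih => rw [pow_succ, ih, Nat.cast_succ, add_mul, one_mul, U_add]
  rw [← map_pow, h, CharP.cast_eq_zero, zero_mul, U_zero, map_one]

theorem orderOf_pj_W : orderOf (proj (Fin 2) F (W : Matrix.SpecialLinearGroup (Fin 2) F)) = 2 := by
  haveI : Fact (Nat.Prime 2) := ⟨Nat.prime_two⟩
  refine orderOf_eq_prime ?_ fun e => by simpa [W] using pj_eq_one e
  rw [← map_pow]
  exact proj_eq_one_of_forall (c := -1) (by simp [W_coe, Matrix.SpecialLinearGroup.coe_pow, pow_two, Matrix.mul_fin_two, Matrix.one_fin_two])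

theorem orderOf_pj_Z : orderOf (proj (Fin 2) F (Z : Matrix.SpecialLinearGroup (Fin 2) F)) = 3 := by
  haveI : Fact (Nat.Prime 3) := ⟨Nat.prime_three⟩
  refine orderOf_eq_prime ?_ fun e => by simpa [Z] using pj_eq_one e
  rw [← map_pow]
  exact proj_eq_one_of_forall (c := 1)
    (by simp [Z_coe, Matrix.SpecialLinearGroup.coe_pow, pow_succ, pow_zero, Matrix.mul_fin_two, Matrix.one_fin_two])

theorem D_conj_U (a : Fˣ) (b : F) : D a * U b * (D a)⁻¹ = U ((a : F) ^ 2 * b) := by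
  rw [mul_inv_eq_iff_eq_mul]
  refine Subtype.ext ?_
  simp [U_coe, D_coe, Matrix.mul_fin_two, pow_two]
  field_simp

/-- Field automorphisms acting on `PSL₂`. -/
noncomputable def semiOne : (F ≃+* F) →* MulAut (ProjectiveSpecialLinearGroup (Fin (0 + 2)) F) where
  toFun τ := semi (1 : GL (Fin (0 + 2)) F) τ
  map_one' := semi_one
  map_mul' σ τ := by rw [semi_mul, map_one, mul_one]; rfl

theorem semiOne_injective : Function.Injective (semiOne (F := F)) := fun _ _ h => (semi_eq_semi.1 h).1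

theorem semiOne_fix (τ : F ≃+* F) {s : Matrix.SpecialLinearGroup (Fin (0 + 2)) F}
    (h : (s : Matrix (Fin (0 + 2)) (Fin (0 + 2)) F).map τ = s) :
    semiOne τ (proj (Fin (0 + 2)) F s) = proj (Fin (0 + 2)) F s :=
  semi_proj_eq 1 τ (by rw [h, inv_one, Units.val_one, one_mul, mul_one])

theorem semiOne_U (τ : F ≃+* F) (a : F) :
    semiOne τ (proj (Fin 2) F (U a)) = proj (Fin 2) F (U (τ a)) :=
  semi_proj_eq 1 τ (by
    ext i j
    fin_cases i <;> fin_cases j <;> simp [U])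

theorem W_fix (τ : F ≃+* F) :
    semiOne τ (proj (Fin 2) F (W : Matrix.SpecialLinearGroup (Fin 2) F)) = proj (Fin 2) F W :=
  semiOne_fix τ (by ext i j; fin_cases i <;> fin_cases j <;> simp [W])

theorem Z_fix (τ : F ≃+* F) :
    semiOne τ (proj (Fin 2) F (Z : Matrix.SpecialLinearGroup (Fin 2) F)) = proj (Fin 2) F Z :=
  semiOne_fix τ (by ext i j; fin_cases i <;> fin_cases j <;> simp [Z])

theorem U_one_fix (τ : F ≃+* F) :
    semiOne τ (proj (Fin 2) F (U (1 : F))) = proj (Fin 2) F (U 1) := by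
  rw [semiOne_U, map_one]

/-- Changing the linear part inside a square class of determinants is inner. -/
theorem exists_conj_semi (g h : GL (Fin (0 + 2)) F) (σ : F ≃+* F) {b : F}
    (hb : (h : Matrix (Fin (0 + 2)) (Fin (0 + 2)) F).det =
      b ^ 2 * (g : Matrix (Fin (0 + 2)) (Fin (0 + 2)) F).det) :
    ∃ s : Matrix.SpecialLinearGroup (Fin (0 + 2)) F,
      semi h σ = MulAut.conj (proj (Fin (0 + 2)) F s) * semi g σ := by
  have hh : (h : Matrix (Fin (0 + 2)) (Fin (0 + 2)) F).det ≠ 0 :=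
    ((Matrix.isUnit_iff_isUnit_det _).1 h.isUnit).ne_zero
  have hb0 : b ≠ 0 := fun e => hh (by rw [hb, e, zero_pow two_ne_zero, zero_mul])
  have hg : ((g⁻¹ : GL (Fin (0 + 2)) F) : Matrix (Fin (0 + 2)) (Fin (0 + 2)) F).det *
      (g : Matrix (Fin (0 + 2)) (Fin (0 + 2)) F).det = 1 := by
    rw [← Matrix.det_mul, Units.inv_mul, Matrix.det_one]
  let s : Matrix.SpecialLinearGroup (Fin (0 + 2)) F :=
    ⟨b⁻¹ • ((h * g⁻¹ : GL (Fin (0 + 2)) F) : Matrix (Fin (0 + 2)) (Fin (0 + 2)) F), by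
      rw [Matrix.det_smul, Units.val_mul, Matrix.det_mul, hb, Fintype.card_fin]
      generalize (g : Matrix (Fin (0 + 2)) (Fin (0 + 2)) F).det = dg at hg ⊢
      generalize ((g⁻¹ : GL (Fin (0 + 2)) F) : Matrix (Fin (0 + 2)) (Fin (0 + 2)) F).det = di at hg ⊢
      calc b⁻¹ ^ (0 + 2) * (b ^ 2 * dg * di) = (b⁻¹ * b) ^ 2 * (di * dg) := by ring
        _ = 1 := by rw [inv_mul_cancel₀ hb0, hg, one_pow, one_mul]⟩
  refine ⟨s, ?_⟩
  rw [conj_eq_semi, semi_mul, semi_eq_semi]
  refine ⟨rfl, Subgroup.mem_center_iff.2 fun x => Units.ext ?_⟩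
  have hz : ((h⁻¹ * (Matrix.SpecialLinearGroup.toGL s *
      Matrix.GeneralLinearGroup.map ((RingEquiv.refl F : F ≃+* F) : F →+* F) g) : GL (Fin (0 + 2)) F) :
        Matrix (Fin (0 + 2)) (Fin (0 + 2)) F) = b⁻¹ • 1 := by
    show ((h⁻¹ : GL (Fin (0 + 2)) F) : Matrix (Fin (0 + 2)) (Fin (0 + 2)) F) *
      ((b⁻¹ • ((h * g⁻¹ : GL (Fin (0 + 2)) F) : Matrix (Fin (0 + 2)) (Fin (0 + 2)) F)) *
        (g : Matrix (Fin (0 + 2)) (Fin (0 + 2)) F).map id) = _
    rw [Matrix.map_id, Units.val_mul, Matrix.smul_mul, mul_assoc, Units.inv_mul, mul_one,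
      Matrix.mul_smul, Units.inv_mul]
  rw [Units.val_mul x, Units.val_mul _ x, hz, Matrix.mul_smul, Matrix.smul_mul, one_mul, mul_one]

/-- The projective order of a diagonal matrix is the order of the ratio. -/
theorem pord_diag (g : GL (Fin (0 + 2)) F) (u v : Fˣ)
    (hg : (g : Matrix (Fin (0 + 2)) (Fin (0 + 2)) F) = Matrix.diagonal ![(u : F), (v : F)]) :
    AutPSLOrder.pord g = orderOf (u / v) := by
  refine orderOf_eq_orderOf_iff.2 fun k => ?_
  rw [← QuotientGroup.mk_pow, QuotientGroup.eq_one_iff, div_pow, div_eq_one, Subgroup.mem_center_iff]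
  constructor
  · intro h
    have h1 := congrArg (fun x : GL (Fin (0 + 2)) F => (x : Matrix (Fin (0 + 2)) (Fin (0 + 2)) F) 0 1)
      (h (Matrix.SpecialLinearGroup.toGL (U 1)))
    simp only [Units.val_mul, Units.val_pow_eq_pow_val, hg, Matrix.diagonal_pow] at h1
    rw [Matrix.mul_diagonal, Matrix.diagonal_mul] at h1
    refine Units.ext ?_
    have h2 : ((Matrix.SpecialLinearGroup.toGL (U (1 : F)) : GL (Fin (0 + 2)) F) :
        Matrix (Fin (0 + 2)) (Fin (0 + 2)) F) 0 1 = 1 := rfl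
    rw [h2] at h1
    simpa using h1.symm
  · intro h x
    have h' : (u : F) ^ k = (v : F) ^ k := by exact_mod_cast congrArg Units.val h
    refine Units.ext ?_
    rw [Units.val_mul, Units.val_mul, Units.val_pow_eq_pow_val, hg, Matrix.diagonal_pow]
    ext i j
    rw [Matrix.mul_diagonal, Matrix.diagonal_mul]
    fin_cases i <;> fin_cases j <;> simp [h', mul_comm]

end Cfsg.Agent.ThreeOrders
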