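import Cfsg.Agent.Lib.OneEvenOrder.Large
import Cfsg.Agent.Lib.CIT.Basic
import Cfsg.Agent.Lib.Transfer.Alperin
import Cfsg.Agent.Lib.OddOrderTheorem.Basic

/-!
# No prime divides three different element orders

* `TO G` : the hypothesis; `TO.subgroup`, `TO.of_surjective`
* `TO.pair` : two orders divisible by `p` other than `p` are equal
* `TO.cit_or_hyp` : CIT, or `OneEvenOrder.Hyp` with an element of order `2 p`
* `TO.eq_bot_of_commute` : nothing centralises a nonsolvable subgroup
* `TO.exists_frob` : an element of odd prime order acting fixed point freely on an elementary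
  abelian 2-subgroup
-/

set_option autoImplicit false
set_option linter.style.haveILetI false
set_option linter.unusedSectionVars false
set_option linter.unusedVariables false

namespace Cfsg.Agent.ThreeOrders

open Subgroup

universe u v

/-- No prime divides three pairwise different element orders. -/
def TO (G : Type u) [Group G] : Prop :=
  ∀ p : ℕ, p.Prime → ∀ a b c : G, orderOf a ≠ orderOf b → orderOf b ≠ orderOf c →
    orderOf a ≠ orderOf c → ¬ (p ∣ orderOf a ∧ p ∣ orderOf b ∧ p ∣ orderOf c)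

variable {G : Type u} [Group G]

theorem TO.subgroup (h : TO G) (H : Subgroup G) : TO H := fun p hp a b c h1 h2 h3 h4 => by
  refine h p hp (a : G) b c ?_ ?_ ?_ ?_ <;> simpa only [Subgroup.orderOf_coe]

variable [Finite G]

theorem TO.of_surjective (h : TO G) {H : Type v} [Group H] (f : G →* H)
    (hf : Function.Surjective f) : TO H := by
  intro p hp a b c h1 h2 h3 h4
  have lift : ∀ y : H, ∃ x : G, orderOf x = orderOf y := fun y => by
    obtain ⟨x, rfl⟩ := hf y
    have hd := orderOf_map_dvd f x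
    exact ⟨x ^ (orderOf x / orderOf (f x)), orderOf_pow_orderOf_div (orderOf_pos x).ne' hd⟩
  obtain ⟨a', ha⟩ := lift a
  obtain ⟨b', hb⟩ := lift b
  obtain ⟨c', hc⟩ := lift c
  refine h p hp a' b' c' ?_ ?_ ?_ ?_ <;> rw [ha] at * <;> first | assumption | skip
  all_goals (simp only [hb, hc] at *; assumption)

/-- Two element orders divisible by `p` and different from `p` are equal. -/
theorem TO.pair (h : TO G) {p : ℕ} (hp : p.Prime) {x y : G} (hx : p ∣ orderOf x) (hy : p ∣ orderOf y)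
    (hxp : orderOf x ≠ p) (hyp : orderOf y ≠ p) : orderOf x = orderOf y := by
  by_contra hne
  have ha : orderOf (x ^ (orderOf x / p)) = p := orderOf_pow_orderOf_div (orderOf_pos x).ne' hx
  exact h p hp (x ^ (orderOf x / p)) x y (by rw [ha]; exact hxp.symm) hne (by rw [ha]; exact hyp.symm)
    ⟨ha.symm ▸ dvd_rfl, hx, hy⟩

omit [Finite G] in
theorem orderOf_mul_primes {a b : G} {p q : ℕ} (hp : p.Prime) (hq : q.Prime) (hne : p ≠ q)
    (hab : Commute a b) (ha : orderOf a = p) (hb : orderOf b = q) : orderOf (a * b) = p * q := by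
  rw [hab.orderOf_mul_eq_mul_orderOf_of_coprime, ha, hb]
  rw [ha, hb]
  exact (Nat.coprime_primes hp hq).2 hne

/-- An element of prime order `p` commutes with elements of one other prime order at most. -/
theorem TO.partner_unique (h : TO G) {a b c : G} {p q r : ℕ} (hp : p.Prime) (hq : q.Prime)
    (hr : r.Prime) (hqp : p ≠ q) (hrp : p ≠ r) (ha : orderOf a = p) (hb : orderOf b = q)
    (hc : orderOf c = r) (hab : Commute a b) (hac : Commute a c) : q = r := by
  have h1 := orderOf_mul_primes hp hq hqp hab ha hb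
  have h2 := orderOf_mul_primes hp hr hrp hac ha hc
  have h3 := h.pair hp (x := a * b) (y := a * c) (h1 ▸ dvd_mul_right p q) (h2 ▸ dvd_mul_right p r)
    (by rw [h1]; exact fun e => hq.ne_one (Nat.eq_of_mul_eq_mul_left hp.pos (e.trans (mul_one p).symm)))
    (by rw [h2]; exact fun e => hr.ne_one (Nat.eq_of_mul_eq_mul_left hp.pos (e.trans (mul_one p).symm)))
  rw [h1, h2] at h3
  exact Nat.eq_of_mul_eq_mul_left hp.pos h3

/-- CIT, or an element of order `2 p` and all orders meeting `2 p` divide it. -/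
theorem TO.cit_or_hyp (h : TO G) :
    CIT.IsCIT G ∨ ∃ p, OneEvenOrder.Hyp G p ∧ ∃ x : G, orderOf x = 2 * p := by
  refine or_iff_not_imp_left.2 fun hG => ?_
  obtain ⟨t, c, p, ht, hp, hp2, htc, hc⟩ : ∃ (t c : G) (p : ℕ), orderOf t = 2 ∧ p.Prime ∧ p ≠ 2 ∧
      Commute t c ∧ orderOf c = p := by
    by_contra hcon
    refine hG fun t ht => ?_
    push Not at hcon
    refine IsPGroup.of_card (n := (Nat.card (centralizer ({t} : Set G))).primeFactorsList.length)
      (Nat.eq_prime_pow_of_unique_prime_dvd Nat.card_pos.ne' fun {r} hr hd => ?_)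
    by_contra hne
    haveI := Fact.mk hr
    obtain ⟨c, hcr⟩ := exists_prime_orderOf_dvd_card' r hd
    exact hcon t (c : G) r ht hr hne (mem_centralizer_singleton_iff.1 c.2).symm
      (by rw [orderOf_coe, hcr])
  have hx := orderOf_mul_primes Nat.prime_two hp hp2.symm htc ht hc
  have := hp.two_le
  refine ⟨p, ⟨hp, hp2, fun y hy => ?_, fun y hy => ?_⟩, _, hx⟩
  · by_cases e : orderOf y = 2
    · exact e ▸ dvd_mul_right 2 p
    · rw [h.pair Nat.prime_two (x := y) (y := t * c) hy (hx ▸ dvd_mul_right 2 p) e (by omega), hx]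
  · by_cases e : orderOf y = p
    · exact e ▸ dvd_mul_left p 2
    · rw [h.pair hp (x := y) (y := t * c) hy (hx ▸ dvd_mul_left p 2) e (by omega), hx]

/-- A nonsolvable group has two primes besides a given one. -/
theorem exists_two_others (hns : ¬ Group.IsSolvable G) {p : ℕ} (hp : p.Prime) :
    ∃ q r : ℕ, q.Prime ∧ r.Prime ∧ q ≠ r ∧ q ≠ p ∧ r ≠ p ∧ q ∣ Nat.card G ∧ r ∣ Nat.card G := by
  obtain ⟨q, hq, hqp, hqd⟩ : ∃ q : ℕ, q.Prime ∧ q ≠ p ∧ q ∣ Nat.card G := by
    by_contra hh
    push Not at hh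
    exact hns (ItoSizes.isSolvable_of_two_primes hp hp fun s hs hd => Or.inl (by
      by_contra hne; exact hh s hs hne hd))
  by_contra hh
  push Not at hh
  exact hns (ItoSizes.isSolvable_of_two_primes hp hq fun s hs hd => by
    by_contra hne
    push Not at hne
    exact hh q s hq hs hne.2.symm hqp hne.1 hqd hd)

/-- Nothing nontrivial centralises a nonsolvable subgroup. -/
theorem TO.eq_bot_of_commute (h : TO G) {A B : Subgroup G} (hB : ¬ Group.IsSolvable B)
    (hAB : A ≤ centralizer (B : Set G)) : A = ⊥ := by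
  by_contra hA
  obtain ⟨p, hp, hpd⟩ := Nat.exists_prime_and_dvd (Subgroup.card_eq_one.not.2 hA)
  obtain ⟨q, r, hq, hr, hqr, hqp, hrp, hqd, hrd⟩ := exists_two_others hB hp
  haveI := Fact.mk hp
  haveI := Fact.mk hq
  haveI := Fact.mk hr
  obtain ⟨a, ha⟩ := exists_prime_orderOf_dvd_card' p hpd
  obtain ⟨b, hb⟩ := exists_prime_orderOf_dvd_card' q hqd
  obtain ⟨c, hc⟩ := exists_prime_orderOf_dvd_card' r hrd
  exact hqr (h.partner_unique hp hq hr hqp.symm hrp.symm (by rw [orderOf_coe, ha])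
    (by rw [orderOf_coe, hb]) (by rw [orderOf_coe, hc])
    (mem_centralizer_iff.1 (hAB a.2) b b.2).symm (mem_centralizer_iff.1 (hAB a.2) c c.2).symm)

/-- A group with a normal 2-complement is solvable. -/
theorem isSolvable_of_complement (h : Cfsg.HasNormalPComplement 2 G) : Group.IsSolvable G := by
  haveI : Fact (Nat.Prime 2) := ⟨Nat.prime_two⟩
  obtain ⟨P, N, hN, hc⟩ := h
  haveI := hN
  haveI : Group.IsSolvable N := by
    refine OddOrderTheorem.solvable ?_
    rw [Nat.odd_iff, ← Nat.two_dvd_ne_zero]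
    intro hd
    exact P.not_dvd_index (by rw [hc.index_eq_card]; exact hd)
  haveI : Group.IsNilpotent (G ⧸ N) :=
    (P.2.of_equiv (hc.symm.QuotientMulEquiv.symm)).isNilpotent
  exact Group.isSolvable_of_ker_le_range N.subtype (QuotientGroup.mk' N)
    (by rw [QuotientGroup.ker_mk', Subgroup.range_subtype])

/-- An element of odd prime order acting fixed point freely on an elementary abelian 2-subgroup. -/
theorem TO.exists_frob (h : TO G) (hns : ¬ Group.IsSolvable G) :
    ∃ (E : Subgroup G) (c : G) (q : ℕ), q.Prime ∧ q ≠ 2 ∧ orderOf c = q ∧ E ≠ ⊥ ∧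
      (∀ x ∈ E, x * x = 1) ∧ (∀ x ∈ E, ∀ y ∈ E, x * y = y * x) ∧
      c ∈ normalizer (E : Set G) ∧ ∀ x ∈ E, c * x * c⁻¹ = x → x = 1 := by
  haveI : Fact (Nat.Prime 2) := ⟨Nat.prime_two⟩
  obtain ⟨R, hR2, hR1, n, hn, hnodd, hnc⟩ : ∃ R : Subgroup G, IsPGroup 2 R ∧ R ≠ ⊥ ∧
      ∃ n ∈ normalizer (R : Set G), (orderOf n).Coprime 2 ∧ n ∉ centralizer (R : Set G) := by
    by_contra hcon
    push Not at hcon
    obtain ⟨P⟩ := (inferInstance : Nonempty (Sylow 2 G))
    exact hns (isSolvable_of_complement (Transfer.hasNormalPComplement_of_local P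
      fun R hR hb => hcon R (P.2.to_le hR.1) hb))
  -- a power of prime order moving `R`
  obtain ⟨y, ⟨hyN, hyo, hyc⟩, hmin⟩ := Set.Finite.exists_minimalFor (fun y : G => orderOf y)
    {y | y ∈ normalizer (R : Set G) ∧ (orderOf y).Coprime 2 ∧ y ∉ centralizer (R : Set G)}
    (Set.toFinite _) ⟨n, hn, hnodd, hnc⟩
  have hpow : ∀ k, k ∣ orderOf y → k ≠ 1 → y ^ k ∈ centralizer (R : Set G) := fun k hk hk1 => by
    by_contra hnot
    have hd : orderOf (y ^ k) ∣ orderOf y := orderOf_pow_dvd k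
    have h1 := hmin ⟨pow_mem hyN k, hyo.coprime_dvd_left hd, hnot⟩ (Nat.le_of_dvd (orderOf_pos y) hd)
    have hk0 : k ≠ 0 := fun e => (orderOf_pos y).ne' (Nat.eq_zero_of_zero_dvd (e ▸ hk))
    simp only at h1
    rw [orderOf_pow' y hk0, Nat.gcd_eq_right hk] at h1
    exact absurd (Nat.div_lt_self (orderOf_pos y) (by omega)) (not_lt.2 h1)
  obtain ⟨q, hq, hqd⟩ := Nat.exists_prime_and_dvd
    (show orderOf y ≠ 1 from fun e => hyc ((orderOf_eq_one_iff.1 e) ▸ one_mem _))
  have hq2 : q ≠ 2 := fun e => by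
    have := Nat.eq_one_of_dvd_coprimes hyo (e ▸ hqd) dvd_rfl
    omega
  haveI := Fact.mk hq
  obtain ⟨t, ht, ht2⟩ : ∃ t ∈ R, orderOf t = 2 := by
    obtain ⟨k, hk⟩ := hR2.exists_card_eq
    have hk0 : k ≠ 0 := fun e => hR1 (card_eq_one.1 (by rw [hk, e, pow_zero]))
    obtain ⟨t, ht⟩ := exists_prime_orderOf_dvd_card' 2 (hk ▸ dvd_pow_self 2 hk0)
    exact ⟨t, t.2, by rw [orderOf_coe, ht]⟩
  have hord : orderOf y = q := by
    by_contra hne
    -- a proper power centralises `t`
    obtain ⟨m, hm⟩ := hqd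
    have hm1 : m ≠ 1 := fun e => hne (by rw [hm, e, mul_one])
    have hmd : m ∣ orderOf y := hm ▸ dvd_mul_left m q
    have hm0 : m ≠ 0 := fun e => (orderOf_pos y).ne' (by rw [hm, e, mul_zero])
    have ho : orderOf (y ^ m) = q := by
      rw [orderOf_pow' y hm0, Nat.gcd_eq_right hmd, hm, Nat.mul_div_cancel _ (Nat.pos_of_ne_zero hm0)]
    have h1 := orderOf_mul_primes Nat.prime_two hq hq2.symm
      (show Commute t (y ^ m) from mem_centralizer_iff.1 (hpow m hmd hm1) t ht) ht2 ho
    have h2 := h.pair hq (x := y) (y := t * y ^ m) (hm ▸ dvd_mul_right q m) (h1 ▸ dvd_mul_left q 2)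
      hne (by rw [h1]; have := hq.two_le; omega)
    rw [h1] at h2
    have := Nat.eq_one_of_dvd_coprimes hyo (h2 ▸ dvd_mul_right 2 q) dvd_rfl
    omega
  have hconj : ∀ x ∈ R, y * x * y⁻¹ ∈ R := fun x hx => (mem_normalizer_iff.1 hyN x).1 hx
  by_cases hfix : ∃ x ∈ R, x ≠ 1 ∧ x * x = 1 ∧ y * x * y⁻¹ = x
  · -- then `G` has no element of order four
    obtain ⟨x, hxR, hx1, hx2, hxy⟩ := hfix
    obtain ⟨p, hH, -⟩ := h.cit_or_hyp.resolve_left fun hG => by
      have hxo := Involution.orderOf_of_sq hx2 hx1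
      obtain ⟨j, hj⟩ := IsPGroup.iff_orderOf.1 (hG x hxo) ⟨y, mem_centralizer_singleton_iff.2
        (mul_inv_eq_iff_eq_mul.1 hxy)⟩
      rw [Subgroup.orderOf_mk, hord] at hj
      exact hq2 ((Nat.prime_dvd_prime_iff_eq hq Nat.prime_two).1
        (hq.dvd_of_dvd_pow (n := j) (by rw [← hj])))
    have hsq : ∀ a ∈ R, a * a = 1 := fun a ha => hH.sq_eq_one hR2 ha
    have hab : ∀ a ∈ R, ∀ b ∈ R, a * b = b * a := fun a ha b hb => by
      have hc := inv_eq_of_mul_eq_one_right (hsq _ (mul_mem ha hb))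
      rw [mul_inv_rev, inv_eq_of_mul_eq_one_right (hsq a ha), inv_eq_of_mul_eq_one_right (hsq b hb)] at hc
      exact hc.symm
    let E : Subgroup G :=
      { carrier := {e | ∃ a ∈ R, y * a * y⁻¹ * a = e}
        one_mem' := ⟨1, one_mem _, by simp⟩
        mul_mem' := by
          rintro _ _ ⟨a, ha, rfl⟩ ⟨b, hb, rfl⟩
          refine ⟨a * b, mul_mem ha hb, ?_⟩
          calc y * (a * b) * y⁻¹ * (a * b) = y * a * y⁻¹ * (y * b * y⁻¹ * a) * b := by group
            _ = y * a * y⁻¹ * (a * (y * b * y⁻¹)) * b := by rw [hab _ (hconj b hb) a ha]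
            _ = _ := by group
        inv_mem' := by
          rintro _ ⟨a, ha, rfl⟩
          exact ⟨a, ha, (inv_eq_of_mul_eq_one_right (hsq _ (mul_mem (hconj a ha) ha))).symm⟩ }
    have hER : ∀ e ∈ E, e ∈ R := by
      rintro _ ⟨a, ha, rfl⟩; exact mul_mem (hconj a ha) ha
    refine ⟨E, y, q, hq, hq2, hord, fun hE => hyc (mem_centralizer_iff.2 fun a ha => ?_),
      fun e he => hsq e (hER e he), fun a ha b hb => hab a (hER a ha) b (hER b hb), ?_, ?_⟩
    · have h1 : y * a * y⁻¹ * a ∈ E := ⟨a, ha, rfl⟩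
      rw [hE, Subgroup.mem_bot, mul_eq_one_iff_eq_inv, inv_eq_of_mul_eq_one_right (hsq a ha),
        mul_inv_eq_iff_eq_mul] at h1
      exact h1.symm
    · refine mem_normalizer_iff.2 fun e => ⟨?_, ?_⟩
      · rintro ⟨a, ha, rfl⟩
        exact ⟨y * a * y⁻¹, hconj a ha, by group⟩
      · rintro ⟨a, ha, he⟩
        refine ⟨y⁻¹ * a * y, (mem_normalizer_iff''.1 hyN a).1 ha, ?_⟩
        calc y * (y⁻¹ * a * y) * y⁻¹ * (y⁻¹ * a * y) = y⁻¹ * (y * a * y⁻¹ * a) * y := by group
          _ = e := by rw [he]; group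
    · rintro e ⟨a, ha, rfl⟩ hfe
      set f := y * a * y⁻¹ * a with hf
      have hfR : f ∈ R := mul_mem (hconj a ha) ha
      have h1 : y * a * y⁻¹ = f * a := by rw [hf, mul_assoc (y * a * y⁻¹) a a, hsq a ha, mul_one]
      have h2 : ∀ i : ℕ, y ^ i * a * (y ^ i)⁻¹ = f ^ i * a := fun i => by
        induction i with
        | zero => simp
        | succ i ih =>
          have h3 : Commute y f := mul_inv_eq_iff_eq_mul.1 hfe
          calc y ^ (i + 1) * a * (y ^ (i + 1))⁻¹ = y * (y ^ i * a * (y ^ i)⁻¹) * y⁻¹ := by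
                rw [pow_succ']; group
            _ = y * f ^ i * a * y⁻¹ := by rw [ih]; group
            _ = f ^ i * (y * a * y⁻¹) := by rw [(h3.pow_right i).eq]; group
            _ = f ^ (i + 1) * a := by rw [h1, pow_succ, ← mul_assoc]
      have h3 := h2 (orderOf y)
      rw [pow_orderOf_eq_one, one_mul, inv_one, mul_one, hord] at h3
      obtain ⟨k, hk⟩ := hq.odd_of_ne_two hq2
      rw [hk, pow_add, pow_mul, pow_two, hsq f hfR, one_pow, one_mul, pow_one] at h3
      exact (mul_eq_right.1 h3.symm)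
  · -- the involutions in the centre of `R`
    push Not at hfix
    let E : Subgroup G :=
      { carrier := {e | e ∈ R ∧ e * e = 1 ∧ ∀ r ∈ R, e * r = r * e}
        one_mem' := ⟨one_mem _, one_mul _, fun r _ => by rw [one_mul, mul_one]⟩
        mul_mem' := by
          rintro a b ⟨ha, ha2, hac⟩ ⟨hb, hb2, hbc⟩
          refine ⟨mul_mem ha hb, ?_, fun r hr => by rw [mul_assoc, hbc r hr, ← mul_assoc, hac r hr, mul_assoc]⟩
          rw [mul_assoc a b, ← mul_assoc b, hbc a ha, mul_assoc a b b, hb2, mul_one, ha2]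
        inv_mem' := by
          rintro a ⟨ha, ha2, hac⟩
          rw [inv_eq_of_mul_eq_one_right ha2]
          exact ⟨ha, ha2, hac⟩ }
    haveI : Nontrivial R := (Subgroup.nontrivial_iff_ne_bot R).2 hR1
    haveI := hR2.center_nontrivial
    obtain ⟨k, hk⟩ := (hR2.to_subgroup (Subgroup.center R)).exists_card_eq
    have hk0 : k ≠ 0 := fun e => by
      rw [e, pow_zero] at hk
      exact (Finite.one_lt_card (α := Subgroup.center R)).ne' hk
    obtain ⟨z, hz⟩ := exists_prime_orderOf_dvd_card' 2 (hk ▸ dvd_pow_self 2 hk0)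
    have hz' : orderOf ((z : R) : G) = 2 := by rw [orderOf_coe, orderOf_coe, hz]
    refine ⟨E, y, q, hq, hq2, hord, fun hE => ?_, fun e he => he.2.1,
      fun a ha b hb => ha.2.2 b hb.1, ?_, fun e he hye => ?_⟩
    · have hzE : ((z : R) : G) ∈ E := ⟨(z : R).2,
        by rw [← sq, ← hz', pow_orderOf_eq_one], fun r hr =>
          (congrArg Subtype.val (Subgroup.mem_center_iff.1 z.2 ⟨r, hr⟩)).symm⟩
      rw [hE, Subgroup.mem_bot] at hzE
      rw [hzE, orderOf_one] at hz'
      omega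
    · refine Coprime.mem_normalizer_of_forall fun e he => ⟨hconj e he.1, ?_, fun r hr => ?_⟩
      · calc y * e * y⁻¹ * (y * e * y⁻¹) = y * (e * e) * y⁻¹ := by group
          _ = 1 := by rw [he.2.1]; group
      · calc y * e * y⁻¹ * r = y * (e * (y⁻¹ * r * y)) * y⁻¹ := by group
          _ = y * (y⁻¹ * r * y * e) * y⁻¹ := by rw [he.2.2 _ ((mem_normalizer_iff''.1 hyN r).1 hr)]
          _ = _ := by group
    · by_contra he1
      exact hfix e he.1 he1 he.2.1 hye

end Cfsg.Agent.ThreeOrders
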