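import Cfsg.Agent.Lib.ThreeOrders.Basic

/-!
# An almost simple group inside the automorphism group of its socle

* `exists_hom` : conjugation, transported along `M ≃* L`
* `commute_of_fix`, `eq_top_of_inner`
* `TO.absurd_two` : two element orders on one prime
-/

set_option autoImplicit false

namespace Cfsg.Agent.ThreeOrders

universe u v

theorem TO.absurd_two {X : Type u} [Group X] [Finite X] (h : TO X) {p a b : ℕ} (hp : p.Prime)
    {x y : X} (hx : orderOf x = a) (hy : orderOf y = b) (ha : p ∣ a) (hb : p ∣ b) (hap : a ≠ p)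
    (hbp : b ≠ p) (hab : a ≠ b) : False := by
  subst hx hy
  exact hab (h.pair hp ha hb hap hbp)

variable {X : Type u} [Group X] {L : Type v} [Group L] {M : Subgroup X}

theorem exists_hom [M.Normal] (hC : Subgroup.centralizer (M : Set X) = ⊥) (e : M ≃* L) :
    ∃ ψ : X →* MulAut L, Function.Injective ψ ∧ ∀ m : M, ψ m = MulAut.conj (e m) := by
  refine ⟨(MulAut.congr e).toMonoidHom.comp MulAut.conjNormal, ?_, fun m => MulEquiv.ext fun y => ?_⟩
  · refine (MulAut.congr e).injective.comp ((MonoidHom.ker_eq_bot_iff _).1 (eq_bot_iff.2 fun x hx => ?_))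
    rw [← hC, Subgroup.mem_centralizer_iff]
    intro m hm
    have h1 := congrArg (fun f : MulAut M => ((f ⟨m, hm⟩ : M) : X)) (MonoidHom.mem_ker.1 hx)
    simp only [MulAut.conjNormal_apply, MulAut.one_apply] at h1
    exact (mul_inv_eq_iff_eq_mul.1 h1).symm
  · show e (MulAut.conjNormal (m : X) (e.symm y)) = e m * y * (e m)⁻¹
    rw [← e.apply_symm_apply y, ← map_inv, ← map_mul, ← map_mul, e.symm_apply_apply]
    exact congrArg e (Subtype.ext (MulAut.conjNormal_apply _ _))

theorem conj_eq_of_hom {ψ : X →* MulAut L} (hinj : Function.Injective ψ) (e : M ≃* L)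
    (hψ : ∀ m : M, ψ m = MulAut.conj (e m)) (s : X) (l : L) :
    s * (e.symm l : X) * s⁻¹ = (e.symm (ψ s l) : X) := by
  apply hinj
  rw [map_mul, map_mul, map_inv, hψ, hψ, e.apply_symm_apply, e.apply_symm_apply, mul_inv_eq_iff_eq_mul]
  exact MulEquiv.ext fun y => by simp

theorem commute_of_fix {ψ : X →* MulAut L} (hinj : Function.Injective ψ) (e : M ≃* L)
    (hψ : ∀ m : M, ψ m = MulAut.conj (e m)) {s : X} {l : L} (hl : ψ s l = l) :
    Commute s (e.symm l : X) := by
  have h := conj_eq_of_hom hinj e hψ s l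
  rw [hl] at h
  exact mul_inv_eq_iff_eq_mul.1 h

theorem orderOf_symm (e : M ≃* L) (l : L) : orderOf (e.symm l : X) = orderOf l := by
  rw [Subgroup.orderOf_coe, MulEquiv.orderOf_eq]

theorem eq_top_of_inner {ψ : X →* MulAut L} (hinj : Function.Injective ψ) (e : M ≃* L)
    (hψ : ∀ m : M, ψ m = MulAut.conj (e m)) (h : ∀ x : X, ∃ l, ψ x = MulAut.conj l) : M = ⊤ := by
  rw [eq_top_iff]
  intro x _
  obtain ⟨l, hl⟩ := h x
  have : x = (e.symm l : X) := hinj (by rw [hl, hψ, e.apply_symm_apply])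
  exact this ▸ (e.symm l).2

end Cfsg.Agent.ThreeOrders
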