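import Cfsg.Agent.Lib.ThreeOrders.Outer
import Cfsg.Agent.Lib.EPPO.Main

/-!
# No outer automorphisms over `PSL₃(4)`

Only the Sylow normalisers of orders 21 and 10 are used.

* `l34_orders`, `L34` : what is used about the group
* `L34.card_normalizer`, `L34.exists_frob` : Sylow normalisers, a subgroup `7 : 3`
* `TO.eq_top_l34`
-/

set_option autoImplicit false
set_option linter.style.haveILetI false
set_option linter.unusedSectionVars false

namespace Cfsg.Agent.ThreeOrders

open Subgroup

universe u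

variable {M : Type u} [Group M]

/-- The order and the element orders of `PSL₃(4)`. -/
structure L34 (M : Type u) [Group M] : Prop where
  card : Nat.card M = 20160
  orders : ∀ x : M, orderOf x ∣ 7 ∨ orderOf x ∣ 5 ∨ orderOf x ∣ 3 ∨ orderOf x ∣ 4
  four : ∃ y : M, orderOf y = 4

theorem L34.of_equiv {F : Type} [Field F] [Fintype F] (hF : Fintype.card F = 4)
    (e : M ≃* Matrix.ProjectiveSpecialLinearGroup (Fin 3) F) : L34 M := by
  haveI : Fact (Nat.Prime 2) := ⟨Nat.prime_two⟩
  haveI : CharP F 2 := charP_of_card_eq_prime_pow (f := 2) (by rw [hF]; norm_num)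
  refine ⟨by rw [Nat.card_congr e.toEquiv, EPPO.card_pslThree_four hF], fun x => ?_, ?_⟩
  rotate_left
  · obtain ⟨y, hy⟩ := PSLThree.exists_order_four (F := F)
    exact ⟨e.symm y, by rw [MulEquiv.orderOf_eq, hy]⟩
  obtain ⟨g, hg⟩ := QuotientGroup.mk'_surjective
    (Subgroup.center (Matrix.SpecialLinearGroup (Fin 3) F)) (e x)
  obtain ⟨m, hm, hgm⟩ := PSLThree.exists_exponent 2 g
  have hd : orderOf x ∣ m := orderOf_dvd_of_pow_eq_one (e.injective (by
    rw [map_pow, ← hg, ← map_pow, map_one]; exact (QuotientGroup.eq_one_iff _).2 hgm))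
  rw [hF] at hm
  norm_num at hm
  rcases hm with rfl | rfl | rfl | rfl | rfl <;> first
    | exact Or.inl hd | exact Or.inr (Or.inl hd) | exact Or.inr (Or.inr (Or.inl hd))
    | exact Or.inr (Or.inr (Or.inr hd)) | exact Or.inr (Or.inr (Or.inr (hd.trans (by norm_num))))

variable [Finite M]

theorem L34.centralizer_eq (h : L34 M) {p : ℕ} (hp : p = 5 ∨ p = 7) (T : Subgroup M)
    (hT : Nat.card T = p) : centralizer (T : Set M) = T := by
  have hpp : p.Prime := by rcases hp with rfl | rfl <;> norm_num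
  haveI := Fact.mk hpp
  haveI : IsCyclic T := isCyclic_of_prime_card hT
  have hle : T ≤ centralizer (T : Set M) := fun x hx => mem_centralizer_iff.2 fun y hy => by
    letI := IsCyclic.commGroup (α := T)
    exact congrArg Subtype.val (mul_comm (⟨y, hy⟩ : T) ⟨x, hx⟩)
  obtain ⟨t, ht⟩ := IsCyclic.exists_ofOrder_eq_natCard (α := T)
  rw [hT] at ht
  have hpg : IsPGroup p (centralizer (T : Set M)) := by
    refine IsPGroup.of_card (n := (Nat.card (centralizer (T : Set M))).primeFactorsList.length)
      (Nat.eq_prime_pow_of_unique_prime_dvd Nat.card_pos.ne' fun {s} hs hd => ?_)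
    by_contra hne
    haveI := Fact.mk hs
    obtain ⟨c, hc⟩ := exists_prime_orderOf_dvd_card' s hd
    have ho := orderOf_mul_primes hpp hs (Ne.symm hne)
      (show Commute (t : M) c from mem_centralizer_iff.1 c.2 t t.2)
      (by rw [orderOf_coe, ht]) (by rw [orderOf_coe, hc])
    have := hs.two_le
    rcases h.orders ((t : M) * (c : M)) with e | e | e | e <;> rw [ho] at e <;>
      [have h2 := Nat.le_of_dvd (by norm_num) e; have h2 := Nat.le_of_dvd (by norm_num) e;
        have h2 := Nat.le_of_dvd (by norm_num) e; have h2 := Nat.le_of_dvd (by norm_num) e] <;>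
      rcases hp with rfl | rfl <;> omega
  obtain ⟨n, hn⟩ := hpg.exists_card_eq
  have h1 : p ^ n ∣ 20160 := hn ▸ h.card ▸ Subgroup.card_subgroup_dvd_card _
  have hn1 : n ≤ 1 := by
    by_contra hlt
    have h2 := (pow_dvd_pow p (show 2 ≤ n by omega)).trans h1
    rcases hp with rfl | rfl <;> norm_num at h2
  refine (Subgroup.eq_of_le_of_card_ge hle ?_).symm
  rw [hn, hT]
  exact (Nat.pow_le_pow_right hpp.pos hn1).trans_eq (pow_one p)

/-- Kernel and image of the conjugation action of a normaliser. -/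
theorem card_normalizer_eq (T : Subgroup M) :
    Nat.card (centralizer (T : Set M)) * Nat.card T.normalizerMonoidHom.range =
      Nat.card (normalizer (T : Set M)) := by
  have h := Subgroup.card_mul_index T.normalizerMonoidHom.ker
  rwa [Subgroup.index_ker, Subgroup.normalizerMonoidHom_ker,
    Nat.card_congr (Subgroup.subgroupOfEquivOfLe (centralizer_le_normalizer (T : Set M))).toEquiv] at h

theorem card_range_dvd {p : ℕ} (hp : p.Prime) (T : Subgroup M) (hT : Nat.card T = p) :
    Nat.card T.normalizerMonoidHom.range ∣ p - 1 := by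
  haveI := Fact.mk hp
  haveI : IsCyclic T := isCyclic_of_prime_card hT
  have h1 := Subgroup.card_subgroup_dvd_card T.normalizerMonoidHom.range
  rwa [IsCyclic.card_mulAut, hT, Nat.totient_prime hp] at h1

theorem L34.card_normalizer (h : L34 M) {p : ℕ} [Fact p.Prime] (hp : p = 5 ∨ p = 7) (P : Sylow p M) :
    Nat.card (P : Subgroup M) = p ∧
      Nat.card (normalizer ((P : Subgroup M) : Set M)) = if p = 5 then 10 else 21 := by
  have hpp : p.Prime := Fact.out
  have hP : Nat.card (P : Subgroup M) = p := by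
    rcases hp with rfl | rfl
    · exact (SmallOrders.card_sylow_subgroup (e := 1) (m := 4032) (by rw [h.card]; norm_num) (by norm_num) P).trans
        (pow_one 5)
    · exact (SmallOrders.card_sylow_subgroup (e := 1) (m := 2880) (by rw [h.card]; norm_num) (by norm_num) P).trans
        (pow_one 7)
  refine ⟨hP, ?_⟩
  have h1 := card_normalizer_eq (P : Subgroup M)
  rw [h.centralizer_eq hp _ hP, hP] at h1
  have h2 := card_range_dvd hpp _ hP
  have h3 : Nat.card (Sylow p M) * Nat.card (normalizer ((P : Subgroup M) : Set M)) = 20160 := by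
    rw [← h.card, Sylow.card_eq_index_normalizer P, mul_comm, ← Subgroup.card_mul_index
      (normalizer ((P : Subgroup M) : Set M))]
    rfl
  have h4 := card_sylow_modEq_one p M
  unfold Nat.ModEq at h4
  rw [← h1] at h3 ⊢
  generalize Nat.card (P : Subgroup M).normalizerMonoidHom.range = e at h2 h3 ⊢
  generalize Nat.card (Sylow p M) = k at h3 h4
  rcases hp with rfl | rfl
  · have := Nat.le_of_dvd (by norm_num) h2
    rw [if_pos rfl]
    interval_cases e <;> omega
  · have := Nat.le_of_dvd (by norm_num) h2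
    rw [if_neg (by norm_num)]
    interval_cases e <;> omega

/-- A Frobenius subgroup of order 21. -/
theorem L34.exists_frob (h : L34 M) :
    ∃ (E : Subgroup M) (c : M), Odd (Nat.card E) ∧ E ≠ ⊥ ∧ orderOf c = 3 ∧
      (∀ e ∈ E, c * e * c⁻¹ ∈ E) ∧ ∀ e ∈ E, Commute c e → e = 1 := by
  haveI : Fact (Nat.Prime 3) := ⟨Nat.prime_three⟩
  haveI : Fact (Nat.Prime 7) := ⟨by norm_num⟩
  obtain ⟨P⟩ := (inferInstance : Nonempty (Sylow 7 M))
  obtain ⟨hT, hN⟩ := h.card_normalizer (Or.inr rfl) P
  rw [if_neg (by norm_num)] at hN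
  generalize (P : Subgroup M) = T at hT hN
  obtain ⟨c, hc⟩ := exists_prime_orderOf_dvd_card' (G := normalizer (T : Set M)) 3 (by rw [hN]; norm_num)
  refine ⟨T, c, by rw [hT]; decide, fun e => by rw [e, Subgroup.card_bot] at hT; norm_num at hT,
    by rw [orderOf_coe, hc], fun e he => (mem_normalizer_iff.1 c.2 e).1 he, fun e he hce => ?_⟩
  by_contra he1
  have heo : orderOf e = 7 := by
    have h1 := Subgroup.orderOf_dvd_natCard T he
    rw [hT] at h1
    exact ((Nat.dvd_prime (by norm_num)).1 h1).resolve_left fun e' => he1 (orderOf_eq_one_iff.1 e')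
  have h2 := orderOf_mul_primes Nat.prime_three (by norm_num : Nat.Prime 7) (by norm_num) hce
    (show orderOf (c : M) = 3 by rw [orderOf_coe, hc]) heo
  rcases h.orders ((c : M) * e) with e' | e' | e' | e' <;> rw [h2] at e' <;> norm_num at e'

variable {X : Type u} [Group X] [Finite X]

/-- Over a subgroup of index `r`, the Frattini argument for a subgroup of order `p`. -/
theorem frattini_card {M : Subgroup X} [M.Normal] {p : ℕ} [Fact p.Prime] (P : Sylow p M) :
    let T := (P : Subgroup M).map M.subtype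
    Nat.card (normalizer (T : Set X)) = M.index * Nat.card (normalizer ((P : Subgroup M) : Set M)) ∧
      Nat.card (normalizer ((P : Subgroup M) : Set M)) = Nat.card ↥(normalizer (T : Set X) ⊓ M) := by
  intro T
  have hfr : normalizer (T : Set X) ⊔ M = ⊤ := Sylow.normalizer_sup_eq_top P
  have he : normalizer ((P : Subgroup M) : Set M) = (normalizer (T : Set X)).subgroupOf M := by
    ext x
    rw [mem_subgroupOf, mem_normalizer_iff, mem_normalizer_iff]
    constructor
    · intro hx y
      constructor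
      · rintro ⟨z, hz, rfl⟩
        exact ⟨x * z * x⁻¹, (hx z).1 hz, rfl⟩
      · rintro ⟨z, hz, e⟩
        refine ⟨x⁻¹ * z * x, (hx _).2 ?_, ?_⟩
        · rwa [show x * (x⁻¹ * z * x) * x⁻¹ = z by group]
        · simp only [Subgroup.coe_subtype, Subgroup.coe_mul, Subgroup.coe_inv] at e ⊢
          rw [e]; group
    · intro hx z
      exact ⟨fun hz => (Subgroup.mem_map_iff_mem M.subtype_injective).1 ((hx z).1 ⟨z, hz, rfl⟩),
        fun hz => (Subgroup.mem_map_iff_mem M.subtype_injective).1
          ((hx z).2 (⟨x * z * x⁻¹, hz, rfl⟩ : ((x * z * x⁻¹ : M) : X) ∈ T))⟩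
  have h1 : Nat.card (normalizer ((P : Subgroup M) : Set M)) = Nat.card ↥(normalizer (T : Set X) ⊓ M) := by
    rw [he, ← Subgroup.inf_subgroupOf_right]
    exact Nat.card_congr (Subgroup.subgroupOfEquivOfLe inf_le_right).toEquiv
  refine ⟨?_, h1⟩
  have h2 : M.relIndex (normalizer (T : Set X)) = M.index := by
    rw [← Subgroup.relIndex_top_right, ← hfr, Subgroup.relIndex_sup_right]
  have h3 := Subgroup.card_mul_index (M.subgroupOf (normalizer (T : Set X)))
  rw [show (M.subgroupOf (normalizer (T : Set X))).index = M.relIndex (normalizer (T : Set X)) from rfl, h2,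
    show Nat.card (M.subgroupOf (normalizer (T : Set X))) = Nat.card ↥(normalizer (T : Set X) ⊓ M) by
      rw [← Subgroup.inf_subgroupOf_left]
      exact Nat.card_congr (Subgroup.subgroupOfEquivOfLe inf_le_left).toEquiv] at h3
  rw [← h3, h1, mul_comm]

/-- Odd prime index: `p r` and `s r` are element orders. -/
theorem L34.outer_orders {M : Subgroup X} [M.Normal] (hM : L34 M) {r : ℕ} (hr : r.Prime)
    (hi : M.index = r) {p : ℕ} (hp : p = 5 ∨ p = 7) (hrp : r ≠ p) (hr1 : ¬ r ∣ p - 1) :
    (∃ x : X, orderOf x = r * p) ∧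
      (r ≠ (if p = 5 then 2 else 3) → ∃ x : X, orderOf x = r * (if p = 5 then 2 else 3)) := by
  have hpp : p.Prime := by rcases hp with rfl | rfl <;> norm_num
  haveI := Fact.mk hpp
  haveI := Fact.mk hr
  obtain ⟨P⟩ := (inferInstance : Nonempty (Sylow p M))
  obtain ⟨hP, hNP⟩ := hM.card_normalizer hp P
  set T := (P : Subgroup M).map M.subtype with hTdef
  obtain ⟨hfr, hinf⟩ := frattini_card P
  have hT : Nat.card T = p := by rw [hTdef, Subgroup.card_map_of_injective M.subtype_injective, hP]
  set N := normalizer (T : Set X) with hNdef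
  set C := centralizer (T : Set X) with hCdef
  change Nat.card N = _ at hfr
  rw [hi, hNP] at hfr
  change Nat.card _ = Nat.card ↥(N ⊓ M) at hinf
  rw [hNP] at hinf
  have hCc := card_normalizer_eq T
  change Nat.card C * _ = Nat.card N at hCc
  rw [hfr] at hCc
  have hrd : r ∣ Nat.card C := by
    rcases hr.dvd_mul.1 (hCc ▸ dvd_mul_right r _ : r ∣ Nat.card C * Nat.card T.normalizerMonoidHom.range) with e | e
    · exact e
    · exact absurd (e.trans (card_range_dvd hpp T hT)) hr1
  obtain ⟨x, hx⟩ := exists_prime_orderOf_dvd_card' r hrd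
  have hxC : (x : X) ∈ C := x.2
  have hx' : orderOf (x : X) = r := by rw [orderOf_coe, hx]
  obtain ⟨t, ht⟩ := exists_prime_orderOf_dvd_card' (G := T) p (by rw [hT])
  refine ⟨⟨_, orderOf_mul_primes hr hpp hrp (mem_centralizer_iff.1 hxC t t.2).symm hx'
    (show orderOf (t : X) = p by rw [orderOf_coe, ht])⟩, fun hs => ?_⟩
  set s := if p = 5 then 2 else 3 with hsdef
  have hsp : s.Prime := by rw [hsdef]; split_ifs <;> norm_num
  haveI := Fact.mk hsp
  obtain ⟨y, hy⟩ := exists_prime_orderOf_dvd_card' (G := ↥(N ⊓ M)) s (by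
    rw [← hinf, hsdef]
    rcases hp with rfl | rfl <;> norm_num)
  have hyN : (y : X) ∈ N := (Subgroup.mem_inf.1 y.2).1
  have hyM : (y : X) ∈ M := (Subgroup.mem_inf.1 y.2).2
  -- `⁅y, x⁆` lies in `M ∩ C = T`
  have hconj : (y : X) * x * (y : X)⁻¹ ∈ C := by
    refine mem_centralizer_iff.2 fun a ha => ?_
    have ha' := (mem_normalizer_iff''.1 hyN a).1 ha
    have h1 := mem_centralizer_iff.1 hxC _ ha'
    calc a * ((y : X) * x * (y : X)⁻¹) = y * (((y : X)⁻¹ * a * y) * x) * (y : X)⁻¹ := by group
      _ = y * (x * ((y : X)⁻¹ * a * y)) * (y : X)⁻¹ := by rw [h1]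
      _ = _ := by group
  set u := (y : X) * x * (y : X)⁻¹ * (x : X)⁻¹ with hu
  have huM : u ∈ M := by
    rw [hu, show (y : X) * x * (y : X)⁻¹ * (x : X)⁻¹ = y * (x * (y : X)⁻¹ * (x : X)⁻¹) by group]
    exact mul_mem hyM (‹M.Normal›.conj_mem _ (inv_mem hyM) _)
  have huT : u ∈ T := by
    have h1 : (⟨u, huM⟩ : M) ∈ centralizer ((P : Subgroup M) : Set M) := mem_centralizer_iff.2 fun a ha =>
      Subtype.ext (mem_centralizer_iff.1 (mul_mem hconj (inv_mem hxC)) a ⟨a, ha, rfl⟩)
    rw [hM.centralizer_eq hp _ hP] at h1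
    exact ⟨⟨u, huM⟩, h1, rfl⟩
  have hcm : Commute u (x : X) := mem_centralizer_iff.1 hxC u huT
  have hur : u ^ r = 1 := by
    have h1 : ((y : X) * x * (y : X)⁻¹) ^ r = 1 := by
      rw [conj_pow, ← hx', pow_orderOf_eq_one]; group
    rw [show (y : X) * x * (y : X)⁻¹ = u * x by rw [hu, inv_mul_cancel_right], hcm.mul_pow, ← hx',
      pow_orderOf_eq_one, mul_one, hx'] at h1
    exact h1
  have hu1 : u = 1 := orderOf_eq_one_iff.1 (Nat.eq_one_of_dvd_coprimes ((Nat.coprime_primes hr hpp).2 hrp)
    (orderOf_dvd_of_pow_eq_one hur) (hT ▸ Subgroup.orderOf_dvd_natCard T huT))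
  have hxy : Commute (x : X) (y : X) := by
    rw [hu, mul_inv_eq_one, mul_inv_eq_iff_eq_mul] at hu1
    exact hu1.symm
  exact ⟨_, orderOf_mul_primes hr hsp hs hxy hx' (show orderOf (y : X) = s by rw [orderOf_coe, hy])⟩

/-- Index two: an element of order 6 or 14. -/
theorem L34.outer_two {M : Subgroup X} [M.Normal] (hM : L34 M) (hi : M.index = 2) :
    ∃ x : X, orderOf x = 6 ∨ orderOf x = 14 := by
  haveI : Fact (Nat.Prime 7) := ⟨by norm_num⟩
  haveI : Fact (Nat.Prime 2) := ⟨Nat.prime_two⟩
  obtain ⟨P⟩ := (inferInstance : Nonempty (Sylow 7 M))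
  have hP : Nat.card (P : Subgroup M) = 7 :=
    (SmallOrders.card_sylow_subgroup (e := 1) (m := 2880) (by rw [hM.card]; norm_num) (by norm_num) P).trans (pow_one 7)
  set T := (P : Subgroup M).map M.subtype with hTdef
  obtain ⟨hfr, hinf⟩ := frattini_card P
  have hT : Nat.card T = 7 := by rw [hTdef, Subgroup.card_map_of_injective M.subtype_injective, hP]
  have hd := card_range_dvd (by norm_num : Nat.Prime 7) T hT
  have hCc := card_normalizer_eq T
  change Nat.card (normalizer (T : Set X)) = _ at hfr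
  rw [hi] at hfr
  rw [hfr] at hCc
  have h7 : 7 ∣ Nat.card (centralizer (T : Set X)) := by
    rcases (by norm_num : Nat.Prime 7).dvd_mul.1
      (show 7 ∣ Nat.card (centralizer (T : Set X)) * Nat.card T.normalizerMonoidHom.range by
        rw [hCc, (hM.card_normalizer (Or.inr rfl) P).2]; norm_num) with e | e
    · exact e
    · have := Nat.le_of_dvd (by norm_num) (e.trans hd); omega
  by_cases h2 : 2 ∣ Nat.card (centralizer (T : Set X))
  · obtain ⟨x, hx⟩ := exists_prime_orderOf_dvd_card' 2 h2
    obtain ⟨t, ht⟩ := exists_prime_orderOf_dvd_card' (G := T) 7 (by rw [hT])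
    refine ⟨(x : X) * t, Or.inr ?_⟩
    rw [orderOf_mul_primes Nat.prime_two (by norm_num : Nat.Prime 7) (by norm_num)
      (mem_centralizer_iff.1 x.2 t t.2).symm (show orderOf (x : X) = 2 by rw [orderOf_coe, hx])
      (show orderOf (t : X) = 7 by rw [orderOf_coe, ht])]
  · -- the image in the automorphism group has order six
    haveI : IsCyclic T := isCyclic_of_prime_card hT
    haveI : IsCyclic (ZMod (Nat.card T))ˣ := by rw [hT]; infer_instance
    haveI : IsCyclic (MulAut T) :=
      isCyclic_of_injective (IsCyclic.mulAutMulEquiv T).toMonoidHom (IsCyclic.mulAutMulEquiv T).injective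
    obtain ⟨g, hg⟩ := IsCyclic.exists_ofOrder_eq_natCard (α := T.normalizerMonoidHom.range)
    obtain ⟨x, hx⟩ := T.normalizerMonoidHom.rangeRestrict_surjective g
    have he : 6 ∣ Nat.card T.normalizerMonoidHom.range := by
      have h2d : 2 ∣ Nat.card T.normalizerMonoidHom.range :=
        (Nat.prime_two.dvd_mul.1 (hCc ▸ dvd_mul_right 2 _)).resolve_left h2
      have h3 : (3 : ℕ).Prime := Nat.prime_three
      haveI := Fact.mk h3
      refine Nat.Coprime.mul_dvd_of_dvd_of_dvd (by norm_num : Nat.Coprime 2 3) h2d ?_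
      by_contra h3n
      have h3N : 3 ∣ Nat.card (normalizer ((P : Subgroup M) : Set M)) := by
        rw [(hM.card_normalizer (Or.inr rfl) P).2]
        norm_num
      have h3C : 3 ∣ Nat.card (centralizer (T : Set X)) :=
        (h3.dvd_mul.1 (hCc ▸ dvd_mul_of_dvd_right h3N 2)).resolve_right h3n
      obtain ⟨w, hw⟩ := exists_prime_orderOf_dvd_card' 3 h3C
      have hwM : (w : X) ∈ M := by
        have h1 := Subgroup.pow_index_mem M (w : X)
        rw [hi] at h1
        have h2' : (w : X) = ((w : X) ^ 2) ^ 2 := by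
          rw [← pow_mul, show 2 * 2 = 3 + 1 from rfl, pow_succ, show (w : X) ^ 3 = 1 by
            rw [← hw, ← orderOf_coe, pow_orderOf_eq_one], one_mul]
        exact h2' ▸ pow_mem h1 2
      have h1 : (⟨w, hwM⟩ : M) ∈ centralizer ((P : Subgroup M) : Set M) := mem_centralizer_iff.2 fun a ha =>
        Subtype.ext (mem_centralizer_iff.1 w.2 a ⟨a, ha, rfl⟩)
      rw [hM.centralizer_eq (Or.inr rfl) _ hP] at h1
      have h37 := Subgroup.orderOf_dvd_natCard _ h1
      rw [hP, ← orderOf_coe, show (((⟨w, hwM⟩ : M) : X)) = (w : X) from rfl, orderOf_coe, hw] at h37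
      norm_num at h37
    have h6 : 6 ∣ orderOf (x : X) := by
      rw [orderOf_coe]
      refine (dvd_trans ?_ (orderOf_map_dvd T.normalizerMonoidHom.rangeRestrict x))
      rw [hx, hg]; exact he
    exact ⟨(x : X) ^ (orderOf (x : X) / 6), Or.inl (orderOf_pow_orderOf_div (orderOf_pos _).ne' h6)⟩

/-- `PSL₃(4)` has no proper almost simple extension. -/
theorem TO.eq_top_l34 (h : TO X) (M : Subgroup X) [M.Normal] (hM : L34 M) : M = ⊤ := by
  by_contra hne
  obtain ⟨r, hr, hrd⟩ := Nat.exists_prime_and_dvd (fun e => hne (Subgroup.index_eq_one.1 e) : M.index ≠ 1)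
  haveI := Fact.mk hr
  rw [Subgroup.index_eq_card] at hrd
  obtain ⟨z, hz⟩ := exists_prime_orderOf_dvd_card' r hrd
  set Y := (zpowers z).comap (QuotientGroup.mk' M) with hY
  have hMY : M ≤ Y := QuotientGroup.le_comap_mk' M _
  have hi : (M.subgroupOf Y).index = r := by
    have hker : M.subgroupOf Y = ((QuotientGroup.mk' M).comp Y.subtype).ker := by
      ext a
      rw [mem_subgroupOf, MonoidHom.mem_ker, MonoidHom.comp_apply, Subgroup.coe_subtype,
        QuotientGroup.mk'_apply, QuotientGroup.eq_one_iff]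
    rw [hker, Subgroup.index_ker, MonoidHom.range_comp, Subgroup.range_subtype, hY,
      Subgroup.map_comap_eq_self_of_surjective (QuotientGroup.mk'_surjective M), Nat.card_zpowers, hz]
  let e := Subgroup.subgroupOfEquivOfLe hMY
  have hM' : L34 (M.subgroupOf Y) := ⟨(Nat.card_congr e.toEquiv).trans hM.card, fun x => by
    rw [← MulEquiv.orderOf_eq e x]; exact hM.orders _,
    hM.four.elim fun y hy => ⟨e.symm y, by rw [MulEquiv.orderOf_eq, hy]⟩⟩
  have hY' := h.subgroup Y
  haveI : Fact (Nat.Prime 2) := ⟨Nat.prime_two⟩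
  by_cases hr2 : r = 2
  · subst hr2
    obtain ⟨x, hx⟩ := hM'.outer_two hi
    obtain ⟨y, hy⟩ := hM'.four
    rcases hx with hx | hx <;>
      exact hY'.absurd_two Nat.prime_two hx (show orderOf (y : Y) = 4 by rw [orderOf_coe, hy])
        (by norm_num) (by norm_num) (by norm_num) (by norm_num) (by norm_num)
  have h3 := hr.two_le
  by_cases hr5 : r = 5
  · subst hr5
    obtain ⟨⟨x, hx⟩, h15⟩ := hM'.outer_orders hr hi (p := 7) (Or.inr rfl) (by norm_num) (by norm_num)
    obtain ⟨y, hy⟩ := h15 (by norm_num)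
    exact hY'.absurd_two hr hx hy (by norm_num) (by norm_num) (by norm_num) (by norm_num) (by norm_num)
  · obtain ⟨⟨x, hx⟩, h10⟩ := hM'.outer_orders hr hi (p := 5) (Or.inl rfl) hr5 (fun hd => by
      have := Nat.le_of_dvd (by norm_num) hd
      interval_cases r <;> first | omega | (norm_num at hd; done) | (norm_num at hr; done))
    obtain ⟨y, hy⟩ := h10 (by rw [if_pos rfl]; exact hr2)
    rw [if_pos rfl] at hy
    exact hY'.absurd_two hr hx hy (dvd_mul_right _ _) (dvd_mul_right _ _) (by omega) (by omega) (by omega)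

end Cfsg.Agent.ThreeOrders
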