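import Cfsg.Agent.Lib.ThreeOrders.Structure
import Cfsg.Agent.Lib.ThreeOrders.OuterL34
import Cfsg.Agent.Lib.ThreeOrders.Outer
import Cfsg.Agent.Lib.ThreeOrders.Elements
import Cfsg.Agent.Lib.Suzuki.Partition
import Cfsg.Agent.Lib.Suzuki.Solubilizer

/-!
# No nontrivial 2-core under a Frobenius subgroup with cyclic complement of order 3 or 4

* `Frob` : the subgroup; `frob_psl`, `frob_l34`, `frob_sz` : examples
* `TO.ker_eq_bot_of_frob`
-/

set_option autoImplicit false
set_option linter.style.haveILetI false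
set_option linter.unusedSectionVars false

namespace Cfsg.Agent.ThreeOrders

open Subgroup Finset
open scoped IsMulCommutative

universe u v w

/-- A Frobenius subgroup with odd kernel and cyclic complement of order three or four. -/
def Frob (L : Type v) [Group L] : Prop :=
  ∃ (E : Subgroup L) (c : L) (n : ℕ), (n = 3 ∨ n = 4) ∧ Odd (Nat.card E) ∧ E ≠ ⊥ ∧ orderOf c = n ∧
    (∀ e ∈ E, c * e * c⁻¹ ∈ E) ∧ ∀ i, 0 < i → i < n → ∀ e ∈ E, Commute (c ^ i) e → e = 1

theorem Frob.map {L : Type v} [Group L] {L' : Type w} [Group L'] (h : Frob L) (e : L ≃* L') : Frob L' := by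
  obtain ⟨E, c, n, hn, hodd, hE, hc, hcE, hfix⟩ := h
  refine ⟨E.map e.toMonoidHom, e c, n, hn, ?_, ?_, by rw [MulEquiv.orderOf_eq, hc], ?_, ?_⟩
  · rwa [Subgroup.card_map_of_injective e.injective]
  · rwa [Ne, Subgroup.map_eq_bot_iff_of_injective _ e.injective]
  · rintro _ ⟨x, hx, rfl⟩
    exact ⟨c * x * c⁻¹, hcE x hx, by simp⟩
  · rintro i hi hin _ ⟨x, hx, rfl⟩ hcom
    have h1 : Commute (c ^ i) x := e.injective (by
      rw [map_mul, map_mul, map_pow]; exact hcom)
    rw [hfix i hi hin x hx h1, map_one]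

/-- `7 : 3` in `L₂(7)` and `9 : 4` in `L₂(9)`. -/
theorem frob_psl {F : Type} [Field F] [Fintype F] (hF : Fintype.card F = 7 ∨ Fintype.card F = 9) :
    Frob (Matrix.ProjectiveSpecialLinearGroup (Fin 2) F) := by
  set pj := AutPSL.proj (Fin 2) F with hpj
  let φ : Multiplicative F →* Matrix.ProjectiveSpecialLinearGroup (Fin 2) F :=
    { toFun := fun a => pj (U a.toAdd)
      map_one' := by rw [toAdd_one, U_zero, map_one]
      map_mul' := fun a b => by rw [toAdd_mul, U_add, map_mul] }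
  have hφ : Function.Injective φ := (injective_iff_map_eq_one φ).2 fun a ha =>
    Multiplicative.toAdd.injective (pj_U_eq_one ha)
  have hcard : Nat.card φ.range = Fintype.card F := by
    rw [← Nat.card_congr (MonoidHom.ofInjective hφ).toEquiv, ← Nat.card_eq_fintype_card]
    exact Nat.card_congr Multiplicative.toAdd
  obtain ⟨z, hz⟩ := IsCyclic.exists_ofOrder_eq_natCard (α := Fˣ)
  rw [Nat.card_units, Nat.card_eq_fintype_card] at hz
  obtain ⟨n, hn, hzn⟩ : ∃ n, (n = 3 ∨ n = 4) ∧ orderOf z = 2 * n := by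
    rcases hF with e | e <;> rw [e] at hz
    · exact ⟨3, Or.inl rfl, hz.trans (by norm_num)⟩
    · exact ⟨4, Or.inr rfl, hz.trans (by norm_num)⟩
  have hDpow : ∀ i : ℕ, pj (D z) ^ i = pj (D (z ^ i)) := fun i => by
    induction i with
    | zero =>
      rw [pow_zero, pow_zero]
      exact ((map_one pj).symm.trans (congrArg pj (Subtype.ext (by simp [D_coe, Matrix.one_fin_two]))))
    | succ i ih =>
      rw [pow_succ, ih, ← map_mul, pow_succ]
      congr 1
      exact Subtype.ext (by simp [D_coe, Matrix.mul_fin_two, mul_comm])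
  have hconj : ∀ (i : ℕ) (b : F), pj (D z) ^ i * pj (U b) * (pj (D z) ^ i)⁻¹ =
      pj (U (((z ^ i : Fˣ) : F) ^ 2 * b)) := fun i b => by
    rw [hDpow, ← map_inv, ← map_mul, ← map_mul, D_conj_U]
  have hfix : ∀ i, 0 < i → i < n → ∀ b : F, Commute (pj (D z) ^ i) (pj (U b)) → b = 0 := by
    intro i hi hin b hcom
    by_contra hb
    have h1 : pj (U (((z ^ i : Fˣ) : F) ^ 2 * b)) = pj (U b) := by rw [← hconj, hcom.eq, mul_inv_cancel_right]
    have h2 : pj (U (((z ^ i : Fˣ) : F) ^ 2 * b - b)) = 1 := by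
      rw [sub_eq_add_neg, U_add, map_mul, h1, ← map_mul, ← U_add, add_neg_cancel, U_zero, map_one]
    have h3 : ((z ^ i : Fˣ) : F) ^ 2 = 1 := mul_right_cancel₀ hb (by
      rw [one_mul]; exact sub_eq_zero.1 (pj_U_eq_one h2))
    have h4 : z ^ (i * 2) = 1 := Units.ext (by rw [pow_mul, Units.val_pow_eq_pow_val, h3, Units.val_one])
    have h5 := Nat.le_of_dvd (by omega) (orderOf_dvd_of_pow_eq_one h4)
    omega
  have hco : orderOf (pj (D z)) = n := by
    rw [orderOf_eq_iff (by omega)]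
    refine ⟨?_, fun i hin hi e => one_ne_zero (hfix i hi hin 1 (e ▸ Commute.one_left _))⟩
    rw [hDpow]
    have h1 : ((z ^ n : Fˣ) : F) ^ 2 = 1 := by
      rw [← Units.val_pow_eq_pow_val, ← pow_mul, mul_comm n 2, ← hzn, pow_orderOf_eq_one, Units.val_one]
    have h2 : ((z ^ n : Fˣ) : F) = -1 := by
      refine (sq_eq_one_iff.1 h1).resolve_left fun e => ?_
      have := Nat.le_of_dvd (by omega) (orderOf_dvd_of_pow_eq_one (Units.ext e : z ^ n = 1))
      omega
    refine AutPSL.proj_eq_one_of_forall (c := -1) ?_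
    have h3 : (((z ^ n)⁻¹ : Fˣ) : F) = -1 := by rw [Units.val_inv_eq_inv_val, h2, inv_neg, inv_one]
    rw [D_coe, h2, h3]
    simp [Matrix.one_fin_two]
  refine ⟨φ.range, pj (D z), n, hn, ?_, ?_, hco, ?_, ?_⟩
  · rw [hcard]; rcases hF with e | e <;> rw [e] <;> decide
  · intro e
    rw [e, Subgroup.card_bot] at hcard
    rcases hF with e' | e' <;> omega
  · rintro _ ⟨a, rfl⟩
    refine ⟨Multiplicative.ofAdd (((z ^ 1 : Fˣ) : F) ^ 2 * a.toAdd), ?_⟩
    have := hconj 1 a.toAdd
    rw [pow_one] at this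
    exact this.symm
  · rintro i hi hin _ ⟨a, rfl⟩ hcom
    show pj (U a.toAdd) = 1
    rw [hfix i hi hin _ hcom, U_zero, map_one]

theorem frob_l34 {L : Type v} [Group L] [Finite L] (h : L34 L) : Frob L := by
  obtain ⟨E, c, hodd, hE, hc, hcE, hfix⟩ := h.exists_frob
  refine ⟨E, c, 3, Or.inl rfl, hodd, hE, hc, hcE, fun i hi hi3 e he hcom => ?_⟩
  obtain ⟨j, hj⟩ := exists_pow_eq_self_of_coprime (x := c) (n := i) (by
    rw [hc]
    exact ((Nat.prime_three.coprime_iff_not_dvd).2 (Nat.not_dvd_of_pos_of_lt hi hi3)).symm)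
  exact hfix e he (hj ▸ hcom.pow_left j)

theorem frob_sz {F : Type} [Field F] [Fintype F] {m : ℕ} (hm : 1 ≤ m)
    (hF : Fintype.card F = 2 ^ (2 * m + 1)) : Frob (Cfsg.Sz F m) := by
  obtain ⟨⟨g, hg, -⟩, -⟩ := Suzuki.exists_torus hm hF
  have hT := Suzuki.torusDatum_torus hm hF hg
  have h1 := hT.card_four
  obtain ⟨c, hcN, hc⟩ : {y | y ∈ normalizer (Suzuki.torus g : Set (Cfsg.Sz F m)) ∧ orderOf y = 4}.Nonempty := by
    rw [Set.nonempty_iff_ne_empty]
    intro e
    rw [e, Set.ncard_empty] at h1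
    have := hT.one_lt
    omega
  refine ⟨Suzuki.torus g, c, 4, Or.inr rfl, hT.odd, fun e => by
    have := hT.one_lt
    rw [e, Subgroup.card_bot] at this
    omega, hc, fun e he => (mem_normalizer_iff.1 hcN e).1 he, fun i hi hi4 e he hcom => ?_⟩
  by_contra he1
  have h2 := hT.eq_one_of_pow (hT.mem_of_commute he he1 hcom.eq) (j := 2)
    (by rw [← pow_mul, mul_comm, pow_mul, show (2 : ℕ) ^ 2 = orderOf c from hc.symm, pow_orderOf_eq_one, one_pow])
  have := Nat.le_of_dvd hi (hc ▸ orderOf_dvd_of_pow_eq_one h2)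
  omega

variable {G : Type u} [Group G] [Finite G]

/-- A Frobenius subgroup of the quotient forces a trivial 2-group kernel. -/
theorem TO.ker_eq_bot_of_frob (h : TO G) (hG : CIT.IsCIT G) {L : Type v} [Group L] (f : G →* L)
    (hf : Function.Surjective f) (hR : IsPGroup 2 f.ker) (hL : Frob L) : f.ker = ⊥ := by
  by_contra hne
  haveI : Fact (Nat.Prime 2) := ⟨Nat.prime_two⟩
  haveI : Finite L := Finite.of_surjective f hf
  obtain ⟨E, c, n, hn, hodd, hE, hc, hcE, hfix⟩ := hL
  set R := f.ker with hRdef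
  haveI : Nontrivial R := (Subgroup.nontrivial_iff_ne_bot R).2 hne
  haveI := hR.center_nontrivial
  haveI : ((Subgroup.center R).map R.subtype).Normal :=
    Cores.map_subtype_normal_of_characteristic R (Subgroup.center R)
  haveI : Group.IsSolvable ((Subgroup.center R).map R.subtype) := by
    haveI := ((hR.to_subgroup (Subgroup.center R)).map R.subtype).isNilpotent
    infer_instance
  have hZ : (Subgroup.center R).map R.subtype ≠ ⊥ := by
    rw [Ne, Subgroup.map_eq_bot_iff_of_injective _ R.subtype_injective]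
    exact (Subgroup.nontrivial_iff_ne_bot _).1 inferInstance
  obtain ⟨p, hp, V, hVn, hV0, hVle, hVc, hVp, hVexp, -⟩ := Solvable.exists_minimal_normal_pGroup hZ
  haveI := hVn
  haveI := hVc
  obtain rfl : p = 2 := by
    by_contra hne2
    haveI := Fact.mk hp
    exact hV0 (disjoint_self.1 ((IsPGroup.disjoint_of_ne p 2 hne2 V R hVp hR).mono_right
      (hVle.trans (Subgroup.map_subtype_le _))))
  have hcen : f.ker ≤ (MulAut.conjNormal : G →* MulAut V).ker := fun x hx => by
    rw [MonoidHom.mem_ker]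
    refine MulEquiv.ext fun v => Subtype.ext ?_
    obtain ⟨z, hz, hzv⟩ := hVle v.2
    have h1 : (z : G) * x = x * z := (congrArg Subtype.val (Subgroup.mem_center_iff.1 hz ⟨x, hx⟩)).symm
    rw [MulAut.conjNormal_apply, MulAut.one_apply, ← hzv, mul_inv_eq_iff_eq_mul]
    exact h1.symm
  let φ : L →* MulAut V := f.liftOfSurjective hf ⟨MulAut.conjNormal, hcen⟩
  have hφ : ∀ g : G, φ (f g) = MulAut.conjNormal g :=
    fun g => f.liftOfRightInverse_comp_apply _ (Function.rightInverse_surjInv hf) ⟨MulAut.conjNormal, hcen⟩ g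
  -- some preimage of `c` has larger order
  obtain ⟨y, hy, hyn⟩ : ∃ y : G, f y = c ∧ y ^ n ≠ 1 := by
    by_contra hall
    push Not at hall
    obtain ⟨g, hg⟩ := hf c
    have hN : ∀ v : V, ∏ i ∈ range n, φ (c ^ i) v = 1 := fun v => by
      have hv : f (v : G) = 1 := (hVle.trans (Subgroup.map_subtype_le _)) v.2
      have h1 := coe_mul_pow V v g n
      rw [hall g hg, mul_one, hall ((v : G) * g) (by rw [map_mul, hv, one_mul, hg])] at h1
      refine Subtype.ext ?_
      rw [Subgroup.coe_one, h1]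
      congr 1
      exact Finset.prod_congr rfl fun i _ => by rw [← hg, ← map_pow, hφ]
    obtain ⟨k, hk⟩ := hVp.exists_card_eq
    obtain ⟨⟨e, he⟩, he1⟩ := E.ne_bot_iff_exists_ne_one.1 hE
    obtain ⟨ge, hge⟩ := hf e
    obtain ⟨⟨v, hv⟩, hv1⟩ := V.ne_bot_iff_exists_ne_one.1 hV0
    have hfix' := apply_eq_of_norm φ E c n (by omega) hcE hfix hN
      (by rw [hk]; exact (Nat.coprime_two_left.2 hodd).pow_left k) he ⟨v, hv⟩
    rw [← hge, hφ] at hfix'
    have hcomm : Commute v ge :=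
      (mul_inv_eq_iff_eq_mul.1 ((MulAut.conjNormal_apply ge ⟨v, hv⟩).symm.trans (congrArg Subtype.val hfix'))).symm
    have hv2 : orderOf v = 2 := orderOf_eq_prime (hVexp v hv) fun e' => hv1 (Subtype.ext e')
    obtain ⟨j, hj⟩ := IsPGroup.iff_orderOf.1 (hG v hv2) ⟨ge, mem_centralizer_singleton_iff.2 hcomm.eq.symm⟩
    rw [Subgroup.orderOf_mk] at hj
    have h1 := orderOf_map_dvd f ge
    rw [hge, hj] at h1
    exact he1 (Subtype.ext (orderOf_eq_one_iff.1 (Nat.eq_one_of_dvd_coprimes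
      ((Nat.coprime_two_left.2 hodd).pow_left j) h1 (Subgroup.orderOf_dvd_natCard E he))))
  have hnd : n ∣ orderOf y := by rw [← hc, ← hy]; exact orderOf_map_dvd f y
  obtain ⟨k, hk⟩ := IsPGroup.iff_orderOf.1 hR ⟨y ^ n, by
    rw [hRdef, MonoidHom.mem_ker, map_pow, hy, ← hc, pow_orderOf_eq_one]⟩
  rw [Subgroup.orderOf_mk, orderOf_pow' y (by omega), Nat.gcd_eq_right hnd] at hk
  have hk0 : k ≠ 0 := by
    rintro rfl
    rw [pow_zero] at hk
    have h1 : orderOf y = n := by rw [← Nat.div_mul_cancel hnd, hk, one_mul]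
    exact hyn (by rw [← h1, pow_orderOf_eq_one])
  have hoy : orderOf y = 2 ^ k * n := by rw [← hk, Nat.div_mul_cancel hnd]
  have h2n : 2 * n ∣ orderOf y := hoy ▸ Nat.mul_dvd_mul_right (dvd_pow_self 2 hk0) n
  rcases hn with rfl | rfl
  · have hy2 := orderOf_pow_orderOf_div (orderOf_pos y).ne' ((dvd_mul_right 2 3).trans h2n)
    have hy3 := orderOf_pow_orderOf_div (orderOf_pos y).ne' hnd
    obtain ⟨j, hj⟩ := IsPGroup.iff_orderOf.1 (hG _ hy2)
      ⟨y ^ (orderOf y / 3), mem_centralizer_singleton_iff.2 ((Commute.refl y).pow_pow _ _).eq⟩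
    rw [Subgroup.orderOf_mk, hy3] at hj
    exact absurd ((Nat.prime_dvd_prime_iff_eq Nat.prime_three Nat.prime_two).1
      (Nat.prime_three.dvd_of_dvd_pow (n := j) (by rw [← hj]))) (by norm_num)
  · exact h.absurd_two Nat.prime_two (orderOf_pow_orderOf_div (orderOf_pos y).ne' hnd)
      (orderOf_pow_orderOf_div (orderOf_pos y).ne' h2n) (by norm_num) (by norm_num) (by norm_num) (by norm_num)
      (by norm_num)

end Cfsg.Agent.ThreeOrders
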