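import Cfsg.Agent.Lib.ThreeOrders.Elements
import Cfsg.Agent.Lib.ThreeOrders.Outer
import Cfsg.Agent.Lib.OneEvenOrder.OneComposite

/-!
# No outer automorphisms over `PSL₂(q)`

* `TO.no_field_aut` : no field automorphism
* `TO.eq_top_even`, `TO.eq_top_odd`, `TO.eq_top_small`
-/

set_option autoImplicit false
set_option linter.style.haveILetI false
set_option linter.unusedSectionVars false

open Matrix
open scoped MatrixGroups

namespace Cfsg.Agent.ThreeOrders

open AutPSL

universe u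

variable {X : Type u} [Group X] [Finite X] {M : Subgroup X} {F : Type} [Field F] [Fintype F]

local notation "P2" => ProjectiveSpecialLinearGroup (Fin (0 + 2)) F

/-- No automorphism of prime order of the field is present. -/
theorem TO.no_field_aut (h : TO X) {ψ : X →* MulAut P2} (hinj : Function.Injective ψ) (e : M ≃* P2)
    (hψ : ∀ m : M, ψ m = MulAut.conj (e m)) {l : ℕ} [hl : Fact l.Prime] [CharP F l] {r : ℕ}
    (hr : r.Prime) {τ : F ≃+* F} (hτ : orderOf τ = r) {s : X} (hs : ψ s = semiOne τ)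
    (h4 : r = 2 → l ≠ 2 → ∃ m : M, orderOf m = 4) (h9 : r = 3 → l = 2 → ∃ m : M, orderOf m = 9) :
    False := by
  haveI := Fact.mk hr
  have hso : orderOf s = r := by
    rw [← orderOf_injective ψ hinj, hs, orderOf_injective semiOne semiOne_injective, hτ]
  have key : ∀ (S : Matrix.SpecialLinearGroup (Fin (0 + 2)) F) (p : ℕ), p.Prime → p ≠ r →
      semiOne τ (proj (Fin (0 + 2)) F S) = proj (Fin (0 + 2)) F S →
      orderOf (proj (Fin (0 + 2)) F S) = p → ∃ x : X, orderOf x = r * p := fun S p hp hne hfix ho =>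
    ⟨_, orderOf_mul_primes hr hp hne.symm
      (commute_of_fix hinj e hψ (s := s) (l := proj (Fin (0 + 2)) F S) (by rw [hs]; exact hfix)) hso
      (by rw [orderOf_symm, ho])⟩
  have hW : r ≠ 2 → ∃ x : X, orderOf x = r * 2 := fun hne =>
    key W 2 Nat.prime_two hne.symm (W_fix τ) orderOf_pj_W
  have hZ : r ≠ 3 → ∃ x : X, orderOf x = r * 3 := fun hne =>
    key Z 3 Nat.prime_three hne.symm (Z_fix τ) orderOf_pj_Z
  have hU : r ≠ l → ∃ x : X, orderOf x = r * l := fun hne =>
    key (U 1) l hl.out hne.symm (U_one_fix τ) (orderOf_pj_U l one_ne_zero)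
  by_cases h23 : r ≠ 2 ∧ r ≠ 3
  · obtain ⟨x, hx⟩ := hW h23.1
    obtain ⟨y, hy⟩ := hZ h23.2
    have := hr.pos
    exact h.absurd_two hr hx hy (dvd_mul_right _ _) (dvd_mul_right _ _) (by omega) (by omega) (by omega)
  -- an element of order `r ^ 2` when `r` is the characteristic
  let ι : F → X := fun a => (e.symm (proj (Fin (0 + 2)) F (U a)) : X)
  have hadd : ∀ a b, ι (a + b) = ι a * ι b := fun a b => by
    simp only [ι, U_add, map_mul, Subgroup.coe_mul]
  have hιo : ∀ a, a ≠ 0 → orderOf (ι a) = l := fun a ha =>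
    (orderOf_symm e _).trans (orderOf_pj_U l ha)
  have hsι : ∀ a, s * ι a = ι (τ a) * s := fun a => mul_inv_eq_iff_eq_mul.1 (by
    rw [conj_eq_of_hom hinj e hψ, hs, semiOne_U])
  obtain rfl | rfl : r = 2 ∨ r = 3 := by
    by_contra hh
    push Not at hh
    exact h23 hh
  · obtain ⟨x, hx⟩ := hZ (by norm_num)
    obtain ⟨y, hy⟩ : ∃ y : X, orderOf y = 4 := by
      by_cases hl2 : l = 2
      · subst hl2
        obtain ⟨a, ha⟩ : ∃ a, τ a ≠ a := by
          by_contra hh
          push Not at hh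
          rw [show τ = 1 from RingEquiv.ext hh, orderOf_one] at hτ
          omega
        have ha0 : a + τ a ≠ 0 := fun e' => ha (by
          haveI := CharTwo.add_eq_zero (R := F) (a := a) (b := τ a)
          exact (this.1 e').symm)
        have hpow : (ι a * s) ^ 2 = ι (a + τ a) := by
          rw [hadd, pow_two, mul_assoc, ← mul_assoc s, hsι, mul_assoc (ι (τ a)), ← pow_two s, ← hso,
            pow_orderOf_eq_one, mul_one]
        exact ⟨ι a * s, orderOf_eq_prime_pow (p := 2) (n := 1)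
          (by rw [pow_one, hpow]; exact fun e' => by simpa [e', orderOf_one] using hιo _ ha0)
          (by rw [show 2 ^ (1 + 1) = 2 * 2 from rfl, pow_mul, hpow, ← hιo _ ha0, pow_orderOf_eq_one])⟩
      · obtain ⟨m, hm⟩ := h4 rfl hl2
        exact ⟨m, by rw [Subgroup.orderOf_coe, hm]⟩
    exact h.absurd_two Nat.prime_two hx hy (dvd_mul_right _ _) (by norm_num) (by norm_num) (by norm_num) (by norm_num)
  · obtain ⟨x, hx⟩ := hW (by norm_num)
    obtain ⟨y, b, hy, hb3, hb, hb6⟩ :
        ∃ (y : X) (b : ℕ), orderOf y = b ∧ 3 ∣ b ∧ b ≠ 3 ∧ b ≠ 6 := by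
      by_cases hl2 : l = 2
      · obtain ⟨m, hm⟩ := h9 rfl hl2
        exact ⟨m, 9, by rw [Subgroup.orderOf_coe, hm], by norm_num, by norm_num, by norm_num⟩
      by_cases hl3 : l = 3
      · subst hl3
        obtain ⟨a, ha⟩ : ∃ a, a + τ a + τ (τ a) ≠ 0 := by
          by_contra hh
          push Not at hh
          obtain ⟨a, ha⟩ : ∃ a, τ a ≠ a := by
            by_contra hh'
            push Not at hh'
            rw [show τ = 1 from RingEquiv.ext hh', orderOf_one] at hτ
            omega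
          have h3 : (3 : F) = 0 := CharP.cast_eq_zero F 3
          set d := τ a - a with hd
          have hd0 : d ≠ 0 := sub_ne_zero.2 ha
          have hdf : τ d = d := by
            rw [hd, map_sub]
            linear_combination hh a - (τ a) * h3
          have hb : τ (a / d) = a / d + 1 := by
            rw [map_div₀, hdf, div_add_one hd0, hd, add_sub_cancel]
          have h5 := hh ((a / d) * (a / d))
          rw [map_mul, map_mul, hb, map_add, hb, map_one] at h5
          have h2 : (2 : F) = 0 := by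
            linear_combination h5 - ((a / d) ^ 2 + 2 * (a / d) + 1) * h3
          have h1 : (1 : F) = 0 := by linear_combination h3 - h2
          exact one_ne_zero h1
        have hpow : (ι a * s) ^ 3 = ι (a + τ a + τ (τ a)) := by
          have h1 : s ^ 3 = 1 := by rw [← hso, pow_orderOf_eq_one]
          calc (ι a * s) ^ 3 = ι a * (s * ι a) * (s * ι a) * s := by
                simp only [pow_succ, pow_zero, one_mul, mul_assoc]
            _ = ι a * ι (τ a) * (s * ι (τ a)) * s * s := by rw [hsι]; simp only [mul_assoc]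
            _ = ι a * ι (τ a) * ι (τ (τ a)) * s ^ 3 := by
                rw [hsι]; simp only [pow_succ, pow_zero, one_mul, mul_assoc]
            _ = _ := by rw [h1, mul_one, hadd, hadd]
        exact ⟨ι a * s, 9, orderOf_eq_prime_pow (p := 3) (n := 1)
          (by rw [pow_one, hpow]; exact fun e' => by simpa [e', orderOf_one] using hιo _ ha)
          (by rw [show 3 ^ (1 + 1) = 3 * 3 from rfl, pow_mul, hpow, ← hιo _ ha, pow_orderOf_eq_one]),
          by norm_num, by norm_num, by norm_num⟩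
      · obtain ⟨y, hy⟩ := hU (Ne.symm hl3)
        refine ⟨y, _, hy, dvd_mul_right _ _, fun e' => ?_, fun e' => hl2 (by omega)⟩
        have := hl.out.two_le
        omega
    exact h.absurd_two Nat.prime_three hx hy (dvd_mul_right _ _) hb3 (by norm_num) hb (by norm_num; omega)

theorem TO.inner_of_square (h : TO X) {ψ : X →* MulAut P2} (hinj : Function.Injective ψ) (e : M ≃* P2)
    (hψ : ∀ m : M, ψ m = MulAut.conj (e m)) {l : ℕ} [Fact l.Prime] [CharP F l]
    (h4 : l ≠ 2 → 2 ∣ Nat.card (F ≃+* F) → ∃ m : M, orderOf m = 4)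
    (h9 : l = 2 → 3 ∣ Nat.card (F ≃+* F) → ∃ m : M, orderOf m = 9)
    {x : X} {g : GL (Fin (0 + 2)) F} {σ : F ≃+* F} (hx : ψ x = semi g σ)
    (hsq : IsSquare (g : Matrix (Fin (0 + 2)) (Fin (0 + 2)) F).det) :
    σ = 1 ∧ ∃ y, ψ x = MulAut.conj y := by
  haveI : Finite (F ≃+* F) := Finite.of_injective _ DFunLike.coe_injective
  obtain ⟨b, hb⟩ := hsq
  obtain ⟨S, hS⟩ := exists_conj_semi (1 : GL (Fin (0 + 2)) F) g σ (b := b)
    (by rw [Units.val_one, Matrix.det_one, mul_one, hb, sq])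
  have hs : ψ ((e.symm (proj (Fin (0 + 2)) F S) : X)⁻¹ * x) = semiOne σ := by
    rw [map_mul, map_inv, hψ, e.apply_symm_apply, hx, hS, inv_mul_cancel_left]
    rfl
  have hσ : σ = 1 := by
    by_contra hne
    obtain ⟨r, hr, hrd⟩ := Nat.exists_prime_and_dvd (orderOf_eq_one_iff.not.2 hne)
    have hd : r ∣ Nat.card (F ≃+* F) := hrd.trans (orderOf_dvd_natCard σ)
    refine h.no_field_aut hinj e hψ hr (τ := σ ^ (orderOf σ / r))
      (orderOf_pow_orderOf_div (orderOf_pos σ).ne' hrd)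
      (s := ((e.symm (proj (Fin (0 + 2)) F S) : X)⁻¹ * x) ^ (orderOf σ / r))
      (by rw [map_pow, hs, map_pow]) (fun e2 hl => h4 hl (e2 ▸ hd)) (fun e3 hl => h9 hl (e3 ▸ hd))
  refine ⟨hσ, proj (Fin (0 + 2)) F S, ?_⟩
  rw [hx, hS, hσ]
  exact (congrArg _ (map_one semiOne)).trans (mul_one _)

/-- Even `q`. -/
theorem TO.eq_top_even (h : TO X) [M.Normal] (hC : Subgroup.centralizer (M : Set X) = ⊥) (e : M ≃* P2)
    {n : ℕ} (hn : 1 ≤ n) (hF : Fintype.card F = 2 ^ n) : M = ⊤ := by
  haveI : Fact (Nat.Prime 2) := ⟨Nat.prime_two⟩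
  haveI : CharP F 2 := charP_of_card_eq_prime_pow hF
  obtain ⟨ψ, hinj, hψ⟩ := exists_hom hC e
  refine eq_top_of_inner hinj e hψ fun x => ?_
  obtain ⟨g, σ, hg⟩ := exists_semi_of_two (ψ x)
  refine (h.inner_of_square hinj e hψ (l := 2) (fun hl => absurd rfl hl) (fun _ h3 => ?_) hg
    (FiniteField.isSquare_of_char_two (ringChar.eq F 2) _)).2
  rw [(fieldAut_facts 2 n hn hF).2] at h3
  obtain ⟨m, hm⟩ : 9 ∈ Set.range (orderOf : M → ℕ) := by
    rw [OneEvenOrder.psl_range_even hn hF e]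
    obtain ⟨j, rfl⟩ := h3
    rcases Nat.even_or_odd j with ⟨i, rfl⟩ | ⟨i, rfl⟩
    · refine Or.inr (Or.inl ?_)
      rw [show 3 * (i + i) = 6 * i by ring, pow_mul, ← Nat.modEq_iff_dvd' (Nat.one_le_pow _ _ (by norm_num))]
      simpa using ((show 2 ^ 6 ≡ 1 [MOD 9] by decide).pow i).symm
    · refine Or.inr (Or.inr ?_)
      have h1 : 2 ^ (3 * (2 * i + 1)) ≡ 8 [MOD 9] := by
        rw [show 3 * (2 * i + 1) = 6 * i + 3 by ring, pow_add, pow_mul]
        exact ((show 2 ^ 6 ≡ 1 [MOD 9] by decide).pow i).mul_right (2 ^ 3) |>.trans (by rw [one_pow]; rfl)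
      exact Nat.modEq_zero_iff_dvd.1 ((h1.add_right 1).trans (by decide))
  exact ⟨m, hm⟩

theorem isSquare_of_pow (hc : ringChar F ≠ 2) {a : F} (ha : a ≠ 0) (h : a ^ (Fintype.card F / 2) = 1) :
    IsSquare a := (FiniteField.isSquare_iff hc ha).2 h

theorem pow_half_of_not_square (hc : ringChar F ≠ 2) {a : F} (ha : a ≠ 0) (h : ¬ IsSquare a) :
    a ^ (Fintype.card F / 2) = -1 :=
  (FiniteField.pow_dichotomy hc ha).resolve_left fun e => h (isSquare_of_pow hc ha e)

/-- A representative of the nonsquare class, and trivial field part. -/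
theorem TO.outer_part (h : TO X) {ψ : X →* MulAut P2} (hinj : Function.Injective ψ) (e : M ≃* P2)
    (hψ : ∀ m : M, ψ m = MulAut.conj (e m)) {l : ℕ} [Fact l.Prime] [CharP F l] (hl2 : l ≠ 2)
    (h4 : 2 ∣ Nat.card (F ≃+* F) → ∃ m : M, orderOf m = 4) (x : X) :
    (∃ y, ψ x = MulAut.conj y) ∨ ∃ σ : F ≃+* F, σ ^ 2 = 1 ∧
      ∀ k : GL (Fin (0 + 2)) F, ¬ IsSquare (k : Matrix (Fin (0 + 2)) (Fin (0 + 2)) F).det →
        ∃ x' : X, ψ x' = semi k σ := by
  have hc : ringChar F ≠ 2 := by rwa [ringChar.eq F l]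
  have hdet : ∀ k : GL (Fin (0 + 2)) F, (k : Matrix (Fin (0 + 2)) (Fin (0 + 2)) F).det ≠ 0 :=
    fun k => ((Matrix.isUnit_iff_isUnit_det _).1 k.isUnit).ne_zero
  obtain ⟨g, σ, hg⟩ := exists_semi_of_two (ψ x)
  by_cases hsq : IsSquare (g : Matrix (Fin (0 + 2)) (Fin (0 + 2)) F).det
  · exact Or.inl (h.inner_of_square hinj e hψ (fun _ => h4) (fun e2 => absurd e2 hl2) hg hsq).2
  refine Or.inr ⟨σ, ?_, fun k hk => ?_⟩
  · have hx2 : ψ (x * x) = semi (g * Matrix.GeneralLinearGroup.map (σ : F →+* F) g) (σ * σ) := by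
      rw [map_mul, hg, semi_mul]; rfl
    have hd : ((g * Matrix.GeneralLinearGroup.map (σ : F →+* F) g : GL (Fin (0 + 2)) F) :
        Matrix (Fin (0 + 2)) (Fin (0 + 2)) F).det =
        (g : Matrix (Fin (0 + 2)) (Fin (0 + 2)) F).det * σ (g : Matrix (Fin (0 + 2)) (Fin (0 + 2)) F).det := by
      rw [Units.val_mul, Matrix.det_mul]
      congr 1
      exact (RingHom.map_det (σ : F →+* F) _).symm
    rw [pow_two]
    refine (h.inner_of_square hinj e hψ (fun _ => h4) (fun e2 => absurd e2 hl2) hx2 ?_).1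
    rw [hd]
    refine isSquare_of_pow hc (mul_ne_zero (hdet g) (map_ne_zero_iff σ σ.injective |>.2 (hdet g))) ?_
    rw [mul_pow, ← map_pow, pow_half_of_not_square hc (hdet g) hsq, map_neg, map_one, neg_mul_neg, one_mul]
  · obtain ⟨b, hb⟩ : IsSquare ((k : Matrix (Fin (0 + 2)) (Fin (0 + 2)) F).det /
        (g : Matrix (Fin (0 + 2)) (Fin (0 + 2)) F).det) :=
      isSquare_of_pow hc (div_ne_zero (hdet k) (hdet g)) (by
        rw [div_pow, pow_half_of_not_square hc (hdet k) hk, pow_half_of_not_square hc (hdet g) hsq,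
          div_self (neg_ne_zero.2 one_ne_zero)])
    obtain ⟨S, hS⟩ := exists_conj_semi g k σ (b := b) (by
      rw [sq, ← hb, div_mul_cancel₀ _ (hdet g)])
    exact ⟨(e.symm (proj (Fin (0 + 2)) F S) : X) * x, by rw [map_mul, hψ, e.apply_symm_apply, hg, hS]⟩

/-- `q ≡ 3, 5 (mod 8)` with an element of order `2 p`. -/
theorem TO.eq_top_odd (h : TO X) [M.Normal] (hC : Subgroup.centralizer (M : Set X) = ⊥) (e : M ≃* P2)
    {l f : ℕ} [Fact l.Prime] (hf : Odd f) (hF : Fintype.card F = l ^ f)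
    (h8 : Fintype.card F % 8 = 3 ∨ Fintype.card F % 8 = 5)
    {p : ℕ} (hp : p.Prime) (hp2 : p ≠ 2) {m : M} (hm : orderOf m = 2 * p) : M = ⊤ := by
  haveI : Fact (Nat.Prime 2) := ⟨Nat.prime_two⟩
  haveI : CharP F l := charP_of_card_eq_prime_pow hF
  have hl2 : l ≠ 2 := by
    rintro rfl
    have := dvd_pow_self 2 (show f ≠ 0 from (hf.pos).ne')
    omega
  obtain ⟨ψ, hinj, hψ⟩ := exists_hom hC e
  have haut := (fieldAut_facts (F := F) l f hf.pos hF).2
  refine eq_top_of_inner hinj e hψ fun x => ?_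
  refine (h.outer_part hinj e hψ hl2 (fun hd => absurd (haut ▸ hd) (Nat.two_dvd_ne_zero.2 (Nat.odd_iff.1 hf))) x
    ).resolve_right ?_
  rintro ⟨σ, hσ2, hout⟩
  haveI : Finite (F ≃+* F) := Finite.of_injective _ DFunLike.coe_injective
  obtain rfl : σ = 1 := by
    refine orderOf_eq_one_iff.1 (Nat.eq_one_of_dvd_coprimes (Nat.coprime_two_left.2 hf)
      (orderOf_dvd_of_pow_eq_one hσ2) ?_)
    rw [← haut]
    exact orderOf_dvd_natCard σ
  let H : GL (Fin (0 + 2)) F := Matrix.GeneralLinearGroup.mkOfDetNeZero !![(1 : F), 1; -1, 1] (by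
    rw [Matrix.det_fin_two_of]
    intro e2
    exact Ring.two_ne_zero (R := F) (by rwa [ringChar.eq F l]) (by linear_combination e2))
  have hH : (H : Matrix (Fin (0 + 2)) (Fin (0 + 2)) F) = !![(1 : F), 1; -1, 1] := rfl
  obtain ⟨x', hx'⟩ := hout H (by
    rw [hH, Matrix.det_fin_two_of, show (1 : F) * 1 - 1 * -1 = 2 by ring, FiniteField.isSquare_two_iff]
    omega)
  have ho : orderOf x' = 4 := by
    rw [← orderOf_injective ψ hinj, hx']
    show orderOf (semi H (RingEquiv.refl F)) = 4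
    rw [AutPSLOrder.orderOf_semi_refl]
    have h2 : ((H ^ 2 : GL (Fin (0 + 2)) F) : Matrix (Fin (0 + 2)) (Fin (0 + 2)) F) = !![0, 2; -2, 0] := by
      rw [Units.val_pow_eq_pow_val, hH, pow_two, Matrix.mul_fin_two]
      ext i j; fin_cases i <;> fin_cases j <;> simp <;> ring
    refine orderOf_eq_prime_pow (p := 2) (n := 1) ?_ ?_
    · rw [pow_one, ← QuotientGroup.mk_pow, QuotientGroup.eq_one_iff, Subgroup.mem_center_iff]
      intro hz
      have h1 := congrArg (fun y : GL (Fin (0 + 2)) F => (y : Matrix (Fin (0 + 2)) (Fin (0 + 2)) F) 0 0)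
        (hz (Matrix.SpecialLinearGroup.toGL (U 1)))
      have hU : ((Matrix.SpecialLinearGroup.toGL (U (1 : F)) : GL (Fin (0 + 2)) F) :
        Matrix (Fin (0 + 2)) (Fin (0 + 2)) F) = !![(1 : F), 1; 0, 1] := rfl
      simp only [Units.val_mul, h2, hU, Matrix.mul_fin_two] at h1
      simp at h1
      exact Ring.two_ne_zero (R := F) (by rwa [ringChar.eq F l]) (by first | exact h1 | linear_combination h1)
    · rw [← QuotientGroup.mk_pow, QuotientGroup.eq_one_iff, Subgroup.mem_center_iff]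
      intro y
      refine Units.ext ?_
      rw [show (2 : ℕ) ^ (1 + 1) = 2 * 2 from rfl, pow_mul, pow_two, Units.val_mul y, Units.val_mul _ y,
        Units.val_mul, h2, Matrix.mul_fin_two]
      rw [show !![(0 : F) * 0 + 2 * -2, 0 * 2 + 2 * 0; -2 * 0 + 0 * -2, -2 * 2 + 0 * 0] = (-4 : F) • 1 by
        ext i j; fin_cases i <;> fin_cases j <;> simp <;> ring, Matrix.mul_smul, Matrix.smul_mul,
        one_mul, mul_one]
  have := hp.two_le
  exact h.absurd_two Nat.prime_two ho (show orderOf (m : X) = 2 * p by rw [Subgroup.orderOf_coe, hm])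
    (by norm_num) (dvd_mul_right 2 p) (by norm_num) (by omega) (by omega)

/-- `q = 7` or `q = 9`. -/
theorem TO.eq_top_small (h : TO X) [M.Normal] (hC : Subgroup.centralizer (M : Set X) = ⊥) (e : M ≃* P2)
    (hF : Fintype.card F = 7 ∨ Fintype.card F = 9) : M = ⊤ := by
  haveI : Fact (Nat.Prime 2) := ⟨Nat.prime_two⟩
  obtain ⟨l, f, hl, hf, hlf⟩ : ∃ l f, l.Prime ∧ 1 ≤ f ∧ Fintype.card F = l ^ f ∧ l ≠ 2 := by
    rcases hF with h7 | h9
    · exact ⟨7, 1, by norm_num, le_rfl, by rw [h7]; norm_num, by norm_num⟩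
    · exact ⟨3, 2, by norm_num, by norm_num, by rw [h9]; norm_num, by norm_num⟩
  obtain ⟨hlf, hl2⟩ := hlf
  haveI := Fact.mk hl
  haveI : CharP F l := charP_of_card_eq_prime_pow hlf
  obtain ⟨m, hm⟩ : 4 ∈ Set.range (orderOf : M → ℕ) := by
    rcases hF with h7 | h9
    · rw [OneEvenOrder.psl_range_odd (l := l) (a := 3) h7 e]; exact Or.inr (Or.inr dvd_rfl)
    · rw [OneEvenOrder.psl_range_odd (l := l) (a := 4) h9 e]; exact Or.inr (Or.inl dvd_rfl)
  have hm' : orderOf (m : X) = 4 := by rw [Subgroup.orderOf_coe, hm]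
  obtain ⟨ψ, hinj, hψ⟩ := exists_hom hC e
  refine eq_top_of_inner hinj e hψ fun x =>
    (h.outer_part hinj e hψ hl2 (fun _ => ⟨m, hm⟩) x).resolve_right ?_
  rintro ⟨σ, hσ2, hout⟩
  haveI : Finite (F ≃+* F) := Finite.of_injective _ DFunLike.coe_injective
  obtain ⟨z, hz⟩ := IsCyclic.exists_ofOrder_eq_natCard (α := Fˣ)
  rw [Nat.card_units, Nat.card_eq_fintype_card] at hz
  have hzn : ¬ IsSquare (z : F) := by
    rw [FiniteField.isSquare_iff (by rwa [ringChar.eq F l]) z.ne_zero]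
    intro e1
    have h1 : orderOf z ∣ Fintype.card F / 2 :=
      orderOf_dvd_of_pow_eq_one (Units.ext (by rw [Units.val_pow_eq_pow_val, e1, Units.val_one]))
    rw [hz] at h1
    rcases hF with e | e <;> rw [e] at h1 <;> norm_num at h1
  by_cases hσ : σ = 1
  · subst hσ
    let k : GL (Fin (0 + 2)) F := Matrix.GeneralLinearGroup.mkOfDetNeZero
      (Matrix.diagonal ![(z : F), ((1 : Fˣ) : F)]) (by simp)
    obtain ⟨x', hx'⟩ := hout k (by simpa [k, Matrix.GeneralLinearGroup.mkOfDetNeZero] using hzn)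
    have ho : orderOf x' = Fintype.card F - 1 := by
      rw [← orderOf_injective ψ hinj, hx']
      show orderOf (semi k (RingEquiv.refl F)) = _
      rw [AutPSLOrder.orderOf_semi_refl, pord_diag k z 1 rfl, div_one, hz]
    rcases hF with e | e <;> rw [e] at ho <;>
      exact h.absurd_two Nat.prime_two hm' ho (by norm_num) (by norm_num) (by norm_num) (by norm_num) (by norm_num)
  have hA := (fieldAut_facts (F := F) l f hf hlf).2
  obtain ⟨rfl, h9⟩ : l = 3 ∧ Fintype.card F = 9 := by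
    rcases hF with e | e
    · exfalso
      refine hσ (orderOf_eq_one_iff.1 (Nat.eq_one_of_dvd_coprimes (a := 2) (b := 1) (by norm_num)
        (orderOf_dvd_of_pow_eq_one hσ2) ?_))
      have h7 : f = 1 := by
        have h7p : (l ^ f).Prime := by rw [← hlf, e]; norm_num
        exact h7p.eq_one_of_pow
      rw [h7] at hA
      exact hA ▸ orderOf_dvd_natCard σ
    · refine ⟨((Nat.prime_dvd_prime_iff_eq hl Nat.prime_three).1 (hl.dvd_of_dvd_pow (n := 2) ?_)), e⟩
      rw [show 3 ^ 2 = l ^ f by rw [← hlf, e]; norm_num]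
      exact dvd_pow_self l (by omega)
  obtain rfl : f = 2 := Nat.pow_right_injective (le_refl 2 |>.trans (by norm_num : 2 ≤ 3))
    (hlf.symm.trans (h9.trans (by norm_num)))
  have hzo : orderOf z = 8 := by rw [hz, h9]
  have hfrob : frobeniusEquiv F 3 ≠ 1 := fun e1 => by
    have h1 : (z : F) ^ 3 = z := congrArg (fun τ : F ≃+* F => τ z) e1
    have h2 : z ^ 3 = z ^ 1 := by rw [pow_one]; exact Units.ext (by simpa using h1)
    rw [pow_eq_pow_iff_modEq, hzo] at h2
    exact absurd h2 (by decide)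
  obtain ⟨_, -, huniq⟩ := (Nat.card_eq_two_iff' (1 : F ≃+* F)).1 hA
  have hσz : σ (z : F) = ((z ^ 3 : Fˣ) : F) := by
    rw [(huniq σ hσ).trans (huniq _ hfrob).symm, Units.val_pow_eq_pow_val]
    rfl
  let k : GL (Fin (0 + 2)) F := Matrix.GeneralLinearGroup.mkOfDetNeZero !![0, (z : F); 1, 0] (by simp)
  have hk : (k : Matrix (Fin (0 + 2)) (Fin (0 + 2)) F) = !![0, (z : F); 1, 0] := rfl
  obtain ⟨x', hx'⟩ := hout k (by
    rw [hk, Matrix.det_fin_two_of]
    intro hsq
    refine hzn ?_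
    obtain ⟨i, hi⟩ : IsSquare (-1 : F) := by rw [FiniteField.isSquare_neg_one_iff, h9]; norm_num
    obtain ⟨j, hj⟩ := hsq
    exact ⟨i * j, by linear_combination (i * i) * hj - (z : F) * hi⟩)
  have hsquare : orderOf (x' * x') = 4 := by
    rw [← orderOf_injective ψ hinj, map_mul, hx', semi_mul,
      show σ.trans σ = RingEquiv.refl F from (pow_two σ).symm.trans hσ2, AutPSLOrder.orderOf_semi_refl]
    rw [pord_diag _ z (z ^ 3) ?_]
    · rw [div_eq_mul_inv, show z ^ 3 = z * z ^ 2 by rw [← pow_succ'], _root_.mul_inv_rev,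
        mul_comm (z ^ 2)⁻¹, ← mul_assoc, mul_inv_cancel, one_mul, orderOf_inv,
        orderOf_pow' z two_ne_zero, hzo]
      rfl
    · show (k : Matrix (Fin (0 + 2)) (Fin (0 + 2)) F) * (k : Matrix (Fin (0 + 2)) (Fin (0 + 2)) F).map σ = _
      rw [hk]
      ext i j
      fin_cases i <;> fin_cases j <;> simp [Matrix.mul_apply, Fin.sum_univ_two, hσz]
  have ho8 : orderOf x' = 8 := by
    refine orderOf_eq_prime_pow (p := 2) (n := 2) ?_ ?_
    · rw [show (2 : ℕ) ^ 2 = 2 * 2 from rfl, pow_mul, pow_two x']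
      exact fun e1 => by simpa [hsquare] using orderOf_dvd_of_pow_eq_one e1
    · rw [show (2 : ℕ) ^ (2 + 1) = 2 * 4 from rfl, pow_mul, pow_two x', ← hsquare, pow_orderOf_eq_one]
  exact h.absurd_two Nat.prime_two hm' ho8 (by norm_num) (by norm_num) (by norm_num) (by norm_num) (by norm_num)

end Cfsg.Agent.ThreeOrders
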