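import Cfsg.Agent.Lib.ThreeOrders.Outer
import Cfsg.Agent.Lib.Suzuki.Aut
import Cfsg.Agent.Lib.Suzuki.BigSubgroup
import Cfsg.Agent.Lib.AutPSL.Count

/-!
# No outer automorphisms over a Suzuki group

* `TO.eq_top_sz`
-/

set_option autoImplicit false
set_option linter.style.haveILetI false

namespace Cfsg.Agent.ThreeOrders

open Cfsg Suzuki

universe u

variable {X : Type u} [Group X] [Finite X] {M : Subgroup X} {F : Type} [Field F] [Fintype F] {m : ℕ}

theorem tSz_one_sq (hF : Fintype.card F = 2 ^ (2 * m + 1)) :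
    tSz hF (1 : F) 0 * tSz hF 1 0 = tSz (m := m) hF 0 1 := by
  haveI := charTwo hF
  rw [tSz_mul, th_one, one_mul, zero_add, zero_add, CharTwo.add_self_eq_zero]

theorem TO.eq_top_sz (h : TO X) [M.Normal] (hC : Subgroup.centralizer (M : Set X) = ⊥)
    (hm : 1 ≤ m) (hF : Fintype.card F = 2 ^ (2 * m + 1)) (e : M ≃* Sz F m) : M = ⊤ := by
  haveI : Fact (Nat.Prime 2) := ⟨Nat.prime_two⟩
  haveI := charTwo hF
  obtain ⟨ψ, hinj, hψ⟩ := exists_hom hC e
  refine eq_top_of_inner hinj e hψ fun x => ?_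
  obtain ⟨g, τ, hg⟩ := aut_decompose hm hF (ψ x)
  suffices hτ : τ = 1 from ⟨g, by
    rw [hg, hτ]
    exact (congrArg _ (map_one (fieldAutHom hm hF))).trans (mul_one _)⟩
  have hfinj : Function.Injective (fieldAutHom hm hF) := (injective_iff_map_eq_one _).2 fun σ hσ =>
    fieldAut_inner hm hF (g := 1) ((show fieldAut hm hF σ = 1 from hσ).trans (map_one MulAut.conj).symm)
  by_contra hne
  haveI : Finite (F ≃+* F) := Finite.of_injective _ DFunLike.coe_injective
  obtain ⟨r, hr, hrd⟩ := Nat.exists_prime_and_dvd (orderOf_eq_one_iff.not.2 hne)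
  have hr2 : r ≠ 2 := by
    rintro rfl
    have h1 := hrd.trans (orderOf_dvd_natCard τ)
    rw [(AutPSL.fieldAut_facts 2 (2 * m + 1) (by omega) hF).2] at h1
    omega
  set σ := τ ^ (orderOf τ / r) with hσ
  set s : X := ((e.symm g : X)⁻¹ * x) ^ (orderOf τ / r) with hsdef
  have hs : ψ s = fieldAutHom hm hF σ := by
    rw [hsdef, map_pow, map_mul, map_inv, hψ, e.apply_symm_apply, hg, inv_mul_cancel_left, hσ, map_pow]
    rfl
  have hso : orderOf s = r := by
    rw [← orderOf_injective ψ hinj, hs, orderOf_injective _ hfinj]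
    exact orderOf_pow_orderOf_div (orderOf_pos τ).ne' hrd
  have hfix : ∀ a b : F, σ a = a → σ b = b → Commute s (e.symm (tSz hF a b) : X) := fun a b ha hb =>
    commute_of_fix hinj e hψ (by
      rw [hs]
      exact (fieldAut_tSz hm hF σ a b).trans (by rw [ha, hb]))
  have hu : orderOf (e.symm (tSz hF (0 : F) 1) : X) = 2 := by
    rw [orderOf_symm, orderOf_tSz_zero hm hF one_ne_zero]
  have hv : orderOf (e.symm (tSz hF (1 : F) 0) : X) = 4 := by
    rw [orderOf_symm]
    refine orderOf_eq_prime_pow (p := 2) (n := 1) ?_ ?_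
    · rw [pow_one, pow_two, tSz_one_sq]
      exact fun e1 => one_ne_zero ((tSz_eq_one_iff hF).1 e1).2
    · rw [show (2 : ℕ) ^ (1 + 1) = 2 * 2 from rfl, pow_mul, pow_two (tSz hF (1 : F) 0), tSz_one_sq,
        ← orderOf_tSz_zero hm hF (one_ne_zero (α := F)), pow_orderOf_eq_one]
  have h1 := orderOf_mul_primes hr Nat.prime_two hr2 (hfix 0 1 (map_zero σ) (map_one σ)) hso hu
  have h2 : orderOf (s * (e.symm (tSz hF (1 : F) 0) : X)) = r * 4 := by
    rw [(hfix 1 0 (map_one σ) (map_zero σ)).orderOf_mul_eq_mul_orderOf_of_coprime, hso, hv]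
    rw [hso, hv]
    exact ((Nat.coprime_primes hr Nat.prime_two).2 hr2).pow_right 2
  have := hr.pos
  exact h.absurd_two hr h1 h2 (dvd_mul_right _ _) (dvd_mul_right _ _) (by omega) (by omega) (by omega)

end Cfsg.Agent.ThreeOrders
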