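import Cfsg.Agent.Lib.ThreeOrders.Socle
import Cfsg.Agent.Lib.ThreeOrders.Frob
import Cfsg.Agent.Lib.ThreeOrders.OuterPSL
import Cfsg.Agent.Lib.ThreeOrders.OuterSz
import Cfsg.Agent.Lib.Bender.RankOneHalf
import Cfsg.Agent.Lib.GraphCIT.Pre

/-!
# Nonsolvable groups in which no prime divides three element orders

* `TO.classify` : the list of S4371
-/

set_option autoImplicit false
set_option linter.style.haveILetI false
set_option linter.unusedSectionVars false

namespace Cfsg.Agent.ThreeOrders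

open Cfsg Subgroup

universe u

variable {G : Type u} [Group G] [Finite G]

/-- An element order has at most two prime factors. -/
theorem TO.length_le (h : TO G) {n : ℕ} (hn : n ∈ Set.range (orderOf : G → ℕ)) :
    n.primeFactorsList.length ≤ 2 := by
  obtain ⟨x, rfl⟩ := hn
  have hx0 := (orderOf_pos x).ne'
  have hprod := Nat.prod_primeFactorsList hx0
  have hp : ∀ p ∈ (orderOf x).primeFactorsList, p.Prime := fun p => Nat.prime_of_mem_primeFactorsList
  rcases hl : (orderOf x).primeFactorsList with _ | ⟨a, _ | ⟨b, _ | ⟨c, t⟩⟩⟩ <;>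
    rw [hl] at hprod hp <;> simp only [List.length_cons, List.length_nil, List.mem_cons] at hp ⊢ <;>
    first | omega | skip
  exfalso
  simp only [List.prod_cons] at hprod
  have ha := hp a (Or.inl rfl)
  have hb := hp b (Or.inr (Or.inl rfl))
  have hc := hp c (Or.inr (Or.inr (Or.inl rfl)))
  have hd : a * b ∣ orderOf x := ⟨c * t.prod, by rw [← hprod]; ring⟩
  have hd' : a * b * c ∣ orderOf x := ⟨t.prod, by rw [← hprod]; ring⟩
  refine h.absurd_two ha (orderOf_pow_orderOf_div hx0 hd) (orderOf_pow_orderOf_div hx0 hd')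
    (dvd_mul_right a b) ((dvd_mul_right a b).mul_right c) ?_ ?_ ?_
  · exact fun e => hb.ne_one (Nat.eq_of_mul_eq_mul_left ha.pos (e.trans (mul_one a).symm))
  · intro e
    rw [mul_assoc] at e
    exact hb.ne_one (Nat.eq_one_of_mul_eq_one_right (Nat.eq_of_mul_eq_mul_left ha.pos (e.trans (mul_one a).symm)))
  · intro e
    exact hc.ne_one (Nat.eq_of_mul_eq_mul_left (Nat.mul_pos ha.pos hb.pos) ((mul_one (a * b)).trans e).symm)

theorem not_isSolvable_quotient (hns : ¬ Group.IsSolvable G) :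
    ¬ Group.IsSolvable (G ⧸ pCore 2 G) := fun hs => hns (by
  haveI : Fact (Nat.Prime 2) := ⟨Nat.prime_two⟩
  haveI := hs
  haveI := (Cores.isPGroup_pCore 2 G).isNilpotent
  exact Group.isSolvable_of_ker_le_range (pCore 2 G).subtype (QuotientGroup.mk' (pCore 2 G))
    (by rw [QuotientGroup.ker_mk', Subgroup.range_subtype]))

/-- Modulo `O₂` the group has a simple normal subgroup with trivial centraliser. -/
theorem TO.exists_socle (h : TO G) (hns : ¬ Group.IsSolvable G) :
    ∃ S : Subgroup (G ⧸ pCore 2 G), ∃ _ : S.Normal, IsSimpleGroup S ∧ (∃ a b : S, a * b ≠ b * a) ∧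
      centralizer (S : Set (G ⧸ pCore 2 G)) = ⊥ := by
  haveI : Fact (Nat.Prime 2) := ⟨Nat.prime_two⟩
  have hX := h.of_surjective _ (QuotientGroup.mk'_surjective (pCore 2 G))
  have hXns := not_isSolvable_quotient hns
  haveI : Nontrivial (G ⧸ pCore 2 G) := not_subsingleton_iff_nontrivial.1 fun h => hXns inferInstance
  obtain ⟨S, hS, hsimp, hSns, hC⟩ := exists_simple_normal (fun A B hB hAB => hX.eq_bot_of_commute hB hAB)
    (fun N hN hNs => by
      haveI := hN
      haveI := hNs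
      have h1 := hX.radical_le hXns N
      rwa [Cores.pCore_quotient_self, le_bot_iff] at h1)
  refine ⟨S, hS, hsimp, ?_, hC⟩
  by_contra hh
  push Not at hh
  exact hSns (IsSimpleGroup.comm_iff_isSolvable.1 hh)

/-- With elementary abelian Sylow 2-subgroups and simple quotient there is no 2-core. -/
theorem TO.pCore_eq_bot_of_hyp (h : TO G) (hns : ¬ Group.IsSolvable G)
    [IsSimpleGroup (G ⧸ pCore 2 G)] {p : ℕ} (hH : OneEvenOrder.Hyp G p) : pCore 2 G = ⊥ := by
  haveI : Fact (Nat.Prime 2) := ⟨Nat.prime_two⟩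
  obtain ⟨P⟩ := (inferInstance : Nonempty (Sylow 2 G))
  haveI := Cores.pCore_normal 2 G
  have hRP : pCore 2 G ≤ (P : Subgroup G) := IsPGroup.le_sylow_of_normal (Cores.isPGroup_pCore 2 G) P
  have hPC : (P : Subgroup G) ≤ centralizer ((pCore 2 G : Subgroup G) : Set G) := fun a ha =>
    mem_centralizer_iff.2 fun b hb => by
      have h1 := inv_eq_of_mul_eq_one_right (hH.sq_eq_one P.2 (mul_mem (hRP hb) ha))
      rw [_root_.mul_inv_rev, inv_eq_of_mul_eq_one_right (hH.sq_eq_one P.2 ha),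
        inv_eq_of_mul_eq_one_right (hH.sq_eq_one P.2 (hRP hb))] at h1
      exact h1.symm
  set C := centralizer ((pCore 2 G : Subgroup G) : Set G) with hC
  haveI hCn : C.Normal := by rw [hC]; infer_instance
  have hQns := not_isSolvable_quotient hns
  have hCmap : C.map (QuotientGroup.mk' (pCore 2 G)) = ⊤ := by
    refine ((hCn.map _ (QuotientGroup.mk'_surjective _)).eq_bot_or_eq_top).resolve_left fun e => ?_
    rw [Subgroup.map_eq_bot_iff, QuotientGroup.ker_mk'] at e
    have h2 : 2 ∣ Nat.card (G ⧸ pCore 2 G) := by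
      by_contra h2
      exact hQns (OddOrderTheorem.solvable (Nat.not_even_iff_odd.1 fun he => h2 (even_iff_two_dvd.1 he)))
    rw [← Subgroup.index_eq_card] at h2
    exact P.not_dvd_index (h2.trans (Subgroup.index_dvd_of_le (hPC.trans e)))
  refine h.eq_bot_of_commute (A := pCore 2 G) (B := C) (fun hs => ?_) ?_
  · haveI := hs
    refine hQns ?_
    have h1 := solvable_of_surjective ((QuotientGroup.mk' (pCore 2 G)).subgroupMap_surjective C)
    rw [hCmap] at h1
    exact solvable_of_surjective (f := (Subgroup.topEquiv (G := G ⧸ pCore 2 G)).toMonoidHom)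
      Subgroup.topEquiv.surjective
  · exact fun a ha => mem_centralizer_iff.2 fun b hb => (mem_centralizer_iff.1 hb a ha).symm

/-- With an element of order `2 p` below a simple quotient there is no 2-core. -/
theorem TO.pCore_eq_bot_of_order (h : TO G) (hns : ¬ Group.IsSolvable G)
    [IsSimpleGroup (G ⧸ pCore 2 G)] {p : ℕ} (hp : p.Prime) (hp2 : p ≠ 2) {y : G ⧸ pCore 2 G}
    (hy : orderOf y = 2 * p) : pCore 2 G = ⊥ := by
  haveI : Fact (Nat.Prime 2) := ⟨Nat.prime_two⟩
  have hO := Cores.isPGroup_pCore 2 G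
  obtain ⟨p', hH, -⟩ := h.cit_or_hyp.resolve_left fun hG => by
    have hQ : CIT.IsCIT (G ⧸ pCore 2 G) := hG.quotient _ hO
    have h2 := orderOf_pow_orderOf_div (orderOf_pos y).ne' (show 2 ∣ orderOf y from hy ▸ dvd_mul_right 2 p)
    have hpy := orderOf_pow_orderOf_div (orderOf_pos y).ne' (show p ∣ orderOf y from hy ▸ dvd_mul_left p 2)
    obtain ⟨j, hj⟩ := IsPGroup.iff_orderOf.1 (hQ _ h2)
      ⟨y ^ (orderOf y / p), mem_centralizer_singleton_iff.2 ((Commute.refl y).pow_pow _ _).eq⟩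
    rw [Subgroup.orderOf_mk, hpy] at hj
    exact hp2 ((Nat.prime_dvd_prime_iff_eq hp Nat.prime_two).1
      (hp.dvd_of_dvd_pow (n := j) (by rw [← hj])))
  exact h.pCore_eq_bot_of_hyp hns hH

/-- A Frobenius subgroup in the quotient leaves no 2-core. -/
theorem TO.pCore_eq_bot_of_frob (h : TO G) {L : Type} [Group L]
    (e : G ⧸ pCore 2 G ≃* L) (hG : CIT.IsCIT G) (hL : Frob L) : pCore 2 G = ⊥ := by
  haveI : Fact (Nat.Prime 2) := ⟨Nat.prime_two⟩
  have hker : (e.toMonoidHom.comp (QuotientGroup.mk' (pCore 2 G))).ker = pCore 2 G := by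
    ext g
    rw [MonoidHom.mem_ker, MonoidHom.comp_apply, MulEquiv.coe_toMonoidHom, EmbeddingLike.map_eq_one_iff,
      QuotientGroup.mk'_apply, QuotientGroup.eq_one_iff]
  have := h.ker_eq_bot_of_frob hG (e.toMonoidHom.comp (QuotientGroup.mk' (pCore 2 G)))
    (e.surjective.comp (QuotientGroup.mk'_surjective _)) (by rw [hker]; exact Cores.isPGroup_pCore 2 G) hL
  rwa [hker] at this

/-- An isomorphism once the 2-core is trivial. -/
noncomputable def equivOfBot {L : Type*} [Group L] (e : G ⧸ pCore 2 G ≃* L) (hR : pCore 2 G = ⊥) :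
    G ≃* L :=
  ((QuotientGroup.quotientMulEquivOfEq hR).trans QuotientGroup.quotientBot).symm.trans e

/-- `L₂(7)`, `L₂(9)`, `L₃(4)` and `Sz(q)` have no 2-core below them. -/
theorem TO.pCore_eq_bot_of_small (h : TO G) (hns : ¬ Group.IsSolvable G) {L : Type} [Group L]
    [IsSimpleGroup (G ⧸ pCore 2 G)] (e : G ⧸ pCore 2 G ≃* L) (hL : Frob L) : pCore 2 G = ⊥ := by
  rcases h.cit_or_hyp with hG | ⟨p, hH, -⟩
  · exact h.pCore_eq_bot_of_frob e hG hL
  · exact h.pCore_eq_bot_of_hyp hns hH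

theorem pow_half {k a : ℕ} (hk : 4 ≤ k) (h : 2 * a + 1 = 2 ^ k + 1 ∨ 2 * a + 1 + 1 = 2 ^ k) :
    a = 2 ^ (k - 1) ∨ a + 1 = 2 ^ (k - 1) := by
  obtain ⟨j, rfl⟩ : ∃ j, k = j + 1 := ⟨k - 1, by omega⟩
  rw [pow_succ] at h
  simp only [Nat.add_sub_cancel]
  omega

/-- The element orders used for the Suzuki groups. -/
theorem sz_orders {F : Type} [Field F] [Fintype F] {m : ℕ} (hm : 1 ≤ m)
    (hF : Fintype.card F = 2 ^ (2 * m + 1)) {k : ℕ}
    (hk : k = 2 ^ (2 * m + 1) - 1 ∨ k = 2 ^ (2 * m + 1) - 2 ^ (m + 1) + 1 ∨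
      k = 2 ^ (2 * m + 1) + 2 ^ (m + 1) + 1) : k ∈ Set.range (orderOf : Sz F m → ℕ) := by
  rcases hk with rfl | hk
  · obtain ⟨z, hz⟩ := IsCyclic.exists_ofOrder_eq_natCard (α := Fˣ)
    rw [Nat.card_units, Nat.card_eq_fintype_card, hF] at hz
    let d : Fˣ →* Sz F m :=
      { toFun := Suzuki.dSz hF
        map_one' := Suzuki.dSz_one hF
        map_mul' := fun a b => (Suzuki.dSz_mul hF a b).symm }
    exact ⟨d z, (orderOf_injective d (fun a b e => Suzuki.dSz_inj hF e) z).trans hz⟩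
  · obtain ⟨U, hU, hUk, -⟩ := Suzuki.exceptional_subgroups hm hF k (by
      rcases hk with rfl | rfl
      · exact Or.inr rfl
      · exact Or.inl rfl)
    obtain ⟨g, hg⟩ := hU.exists_ofOrder_eq_natCard
    exact ⟨(g : Sz F m), by rw [orderOf_coe, hg, hUk]⟩

/-- The classification. -/
theorem TO.classify (h : TO G) (hns : ¬ Group.IsSolvable G) :
    (∃ (F : Type) (_ : Field F) (_ : Fintype F), CharP F 2 ∧ 4 ≤ Fintype.card F ∧
        (Fintype.card F + 1).primeFactorsList.length ≤ 2 ∧ (Fintype.card F - 1).primeFactorsList.length ≤ 2 ∧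
        Nonempty (G ⧸ Cfsg.pCore 2 G ≃* Matrix.ProjectiveSpecialLinearGroup (Fin 2) F)) ∨
    (∃ (F : Type) (_ : Field F) (_ : Fintype F), 5 < Fintype.card F ∧ (Fintype.card F % 8 = 3 ∨ Fintype.card F % 8 = 5) ∧
        ((Fintype.card F + 1) / 2).primeFactorsList.length ≤ 2 ∧ ((Fintype.card F - 1) / 2).primeFactorsList.length ≤ 2 ∧
        Nonempty (G ≃* Matrix.ProjectiveSpecialLinearGroup (Fin 2) F)) ∨
    (∃ (F : Type) (_ : Field F) (_ : Fintype F), (Fintype.card F = 7 ∨ Fintype.card F = 9) ∧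
        Nonempty (G ≃* Matrix.ProjectiveSpecialLinearGroup (Fin 2) F)) ∨
    (∃ (F : Type) (_ : Field F) (_ : Fintype F), Fintype.card F = 4 ∧ Nonempty (G ≃* Matrix.ProjectiveSpecialLinearGroup (Fin 3) F)) ∨
    (∃ n : ℕ, 1 ≤ n ∧ IsSimpleGroup G ∧ Nat.card G = (2 ^ (2 * n + 1)) ^ 2 * ((2 ^ (2 * n + 1)) ^ 2 + 1) * (2 ^ (2 * n + 1) - 1) ∧
        (2 ^ (2 * n + 1) - 1).primeFactorsList.length ≤ 2 ∧ (2 ^ (2 * n + 1) - 2 ^ (n + 1) + 1).primeFactorsList.length ≤ 2 ∧
        (2 ^ (2 * n + 1) + 2 ^ (n + 1) + 1).primeFactorsList.length ≤ 2) := by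
  haveI : Fact (Nat.Prime 2) := ⟨Nat.prime_two⟩
  obtain ⟨S, hSn, hsimp, hnc, hC⟩ := h.exists_socle hns
  haveI := hSn
  haveI := hsimp
  have hX := h.of_surjective _ (QuotientGroup.mk'_surjective (pCore 2 G))
  have hS := hX.subgroup S
  -- transport along `S = ⊤`
  have htop : ∀ {L : Type} [Group L] (e : S ≃* L), S = ⊤ →
      Nonempty (G ⧸ pCore 2 G ≃* L) ∧ IsSimpleGroup (G ⧸ pCore 2 G) := fun {L} _ e he => by
    subst he
    exact ⟨⟨Subgroup.topEquiv.symm.trans e⟩, Subgroup.topEquiv.symm.isSimpleGroup⟩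
  -- the even case
  have heven : ∀ (F : Type) [Field F] [Fintype F] (n : ℕ), 2 ≤ n → Fintype.card F = 2 ^ n →
      (S ≃* Matrix.ProjectiveSpecialLinearGroup (Fin 2) F) →
      CharP F 2 ∧ 4 ≤ Fintype.card F ∧
        (Fintype.card F + 1).primeFactorsList.length ≤ 2 ∧ (Fintype.card F - 1).primeFactorsList.length ≤ 2 ∧
        Nonempty (G ⧸ Cfsg.pCore 2 G ≃* Matrix.ProjectiveSpecialLinearGroup (Fin 2) F) := by
    intro F _ _ n hn hF e
    refine ⟨charP_of_card_eq_prime_pow hF, hF ▸ Nat.pow_le_pow_right (show 0 < 2 by norm_num) hn, ?_, ?_,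
      (htop e (hX.eq_top_even hC e (by omega : 1 ≤ n) hF)).1⟩
    · rw [hF]; exact hS.length_le ((OneEvenOrder.psl_range_even (by omega) hF e _).2 (Or.inr (Or.inr dvd_rfl)))
    · rw [hF]; exact hS.length_le ((OneEvenOrder.psl_range_even (by omega) hF e _).2 (Or.inr (Or.inl dvd_rfl)))
  rcases hS.cit_or_hyp with hCIT | ⟨p, hH, hx⟩
  · rcases CITClass.classify hnc hCIT with ⟨F, _, _, hF, ⟨e⟩⟩ | ⟨F, _, _, hF, ⟨e⟩⟩ | ⟨F, _, _, m, hm, hF, ⟨e⟩⟩
    · have h4 := OneEvenOrder.four_le_card hnc e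
      rcases hF with h9 | ⟨n, hn⟩ | ⟨hpr, k, hk⟩
      · obtain ⟨⟨eX⟩, hsX⟩ := htop e (hX.eq_top_small hC e (Or.inr h9))
        haveI := hsX
        have hR := h.pCore_eq_bot_of_small hns eX (frob_psl (Or.inr h9))
        exact Or.inr (Or.inr (Or.inl ⟨F, _, _, Or.inr h9, ⟨equivOfBot eX hR⟩⟩))
      · refine Or.inl ⟨F, _, _, heven F n ?_ hn e⟩
        by_contra hlt
        have := Nat.pow_le_pow_right (show 0 < 2 by norm_num) (show n ≤ 1 by omega)
        omega
      · obtain ⟨a, ha⟩ := hpr.odd_of_ne_two (by omega)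
        haveI := Fact.mk hpr
        haveI : CharP F (Fintype.card F) := charP_of_card_eq_prime_pow (f := 1) (by rw [pow_one])
        have hk4 : k < 4 := by
          by_contra hk4
          have h2 : (2 ^ (k - 1)).primeFactorsList.length ≤ 2 := by
            refine hS.length_le ((OneEvenOrder.psl_range_odd (l := Fintype.card F) ha e _).2 ?_)
            rcases pow_half (a := a) (by omega : 4 ≤ k) (ha ▸ hk) with e1 | e1
            · exact Or.inr (Or.inl (e1 ▸ dvd_rfl))
            · exact Or.inr (Or.inr (e1 ▸ dvd_rfl))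
          rw [Nat.Prime.primeFactorsList_pow Nat.prime_two, List.length_replicate] at h2
          omega
        obtain h5 | h7 : Fintype.card F = 5 ∨ Fintype.card F = 7 := by
          rcases hk with hk | hk <;> interval_cases k <;> norm_num at hk <;>
            first | omega | (rw [hk] at hpr; norm_num at hpr)
        · haveI : Fact (Nat.Prime 5) := ⟨Nat.prime_five⟩
          haveI : Fintype (GaloisField 2 2) := Fintype.ofFinite _
          have h4' : Fintype.card (GaloisField 2 2) = 4 := by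
            rw [← Nat.card_eq_fintype_card, GaloisField.card 2 2 (by norm_num)]; norm_num
          obtain ⟨f⟩ := OneEvenOrder.psl_four_equiv (F := GaloisField 2 2) h4'
          exact Or.inl ⟨GaloisField 2 2, inferInstance, inferInstance, heven (GaloisField 2 2) 2 le_rfl h4'
            ((e.trans (Linear.pslMapEquiv (FiniteField.ringEquivOfCardEq (K := F) (K' := ZMod 5)
              (h5.trans (ZMod.card 5).symm)))).trans f.symm)⟩
        · obtain ⟨⟨eX⟩, hsX⟩ := htop e (hX.eq_top_small hC e (Or.inl h7))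
          haveI := hsX
          have hR := h.pCore_eq_bot_of_small hns eX (frob_psl (Or.inl h7))
          exact Or.inr (Or.inr (Or.inl ⟨F, _, _, Or.inl h7, ⟨equivOfBot eX hR⟩⟩))
    · have hL := L34.of_equiv hF e
      obtain ⟨⟨eX⟩, hsX⟩ := htop e (hX.eq_top_l34 S hL)
      haveI := hsX
      haveI : Finite (Matrix.ProjectiveSpecialLinearGroup (Fin 3) F) := Finite.of_equiv _ e.toEquiv
      have hR := h.pCore_eq_bot_of_small hns eX (frob_l34 (L34.of_equiv hF (MulEquiv.refl _)))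
      exact Or.inr (Or.inr (Or.inr (Or.inl ⟨F, _, _, hF, ⟨equivOfBot eX hR⟩⟩)))
    · let e' : S ≃* Sz F m := e.trans (Suzuki.lieEquiv hm hF).symm
      obtain ⟨⟨eX⟩, hsX⟩ := htop e' (hX.eq_top_sz hC hm hF e')
      haveI := hsX
      have hR := h.pCore_eq_bot_of_small hns eX (frob_sz hm hF)
      have eG := equivOfBot eX hR
      have hlen : ∀ {k : ℕ}, k ∈ Set.range (orderOf : Sz F m → ℕ) → k.primeFactorsList.length ≤ 2 := by
        rintro k ⟨g, rfl⟩
        exact h.length_le ⟨eG.symm g, MulEquiv.orderOf_eq eG.symm g⟩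
      refine Or.inr (Or.inr (Or.inr (Or.inr ⟨m, hm, ?_, ?_, hlen (sz_orders hm hF (Or.inl rfl)),
        hlen (sz_orders hm hF (Or.inr (Or.inl rfl))), hlen (sz_orders hm hF (Or.inr (Or.inr rfl)))⟩)))
      · exact ((QuotientGroup.quotientMulEquivOfEq hR).trans QuotientGroup.quotientBot).symm.isSimpleGroup
      · rw [Nat.card_congr eG.toEquiv, Suzuki.card_sz hm hF]
  · obtain ⟨F, _, _, ⟨a, ha⟩, ⟨e⟩⟩ := hH.psl_two Bender.rankOneHalf hx
    have h4 := OneEvenOrder.four_le_card hnc e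
    obtain ⟨l, hl⟩ := CharP.exists F
    haveI := hl
    obtain ⟨f, hlp, hF⟩ := FiniteField.card F l
    haveI := Fact.mk hlp
    obtain ⟨x, hx⟩ := hx
    have hp := hH.prime
    have hno4 : ∀ k, 4 ∣ k → OneEvenOrder.OddOrders l a k → False := fun k h4k hk => by
      obtain ⟨y, hy⟩ := (OneEvenOrder.psl_range_odd (l := l) ha e k).2 hk
      have h1 := h4k.trans (hy ▸ hH.two y (hy ▸ (dvd_trans (by norm_num) h4k)))
      rw [show (4 : ℕ) = 2 * 2 by norm_num] at h1
      exact hH.odd ((Nat.prime_dvd_prime_iff_eq Nat.prime_two hp).1 (Nat.dvd_of_mul_dvd_mul_left two_pos h1)).symm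
    have h8 : Fintype.card F % 8 = 3 ∨ Fintype.card F % 8 = 5 := by
      have ha4 : ¬ 4 ∣ a := fun hd => hno4 a hd (Or.inr (Or.inl dvd_rfl))
      have hb4 : ¬ 4 ∣ a + 1 := fun hd => hno4 _ hd (Or.inr (Or.inr dvd_rfl))
      omega
    have hfodd : Odd (f : ℕ) := by
      rcases Nat.even_or_odd (f : ℕ) with ⟨j, hj⟩ | ho
      · exfalso
        rw [hF, hj, pow_add, Nat.mul_mod] at h8
        have := Nat.mod_lt (l ^ j) (show 8 > 0 by norm_num)
        interval_cases (l ^ j % 8) <;> norm_num at h8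
      · exact ho
    have h5 : 5 < Fintype.card F := by
      by_contra h5
      have : a = 2 := by omega
      subst this
      have h5F : Fintype.card F = 5 := by omega
      obtain rfl : l = 5 := by
        have hd : l ∣ 5 := h5F ▸ hF ▸ dvd_pow_self l f.pos.ne'
        exact (Nat.prime_dvd_prime_iff_eq hlp Nat.prime_five).1 hd
      have hp2 := hp.two_le
      have hp3 := hH.odd
      rcases (OneEvenOrder.psl_range_odd (l := 5) ha e (2 * p)).1 ⟨x, hx⟩ with h' | h' | h' <;>
        [skip; skip; skip] <;> have hle := Nat.le_of_dvd (by norm_num) h' <;> omega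
    obtain ⟨⟨eX⟩, hsX⟩ := htop e (hX.eq_top_odd hC e hfodd hF h8 hp hH.odd hx)
    haveI := hsX
    have hR := h.pCore_eq_bot_of_order hns hp hH.odd (y := (x : G ⧸ pCore 2 G))
      (by rw [orderOf_coe, hx])
    refine Or.inr (Or.inl ⟨F, _, _, h5, h8, ?_, ?_, ⟨equivOfBot eX hR⟩⟩)
    · rw [show (Fintype.card F + 1) / 2 = a + 1 by omega]
      exact hS.length_le ((OneEvenOrder.psl_range_odd (l := l) ha e _).2 (Or.inr (Or.inr dvd_rfl)))
    · rw [show (Fintype.card F - 1) / 2 = a by omega]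
      exact hS.length_le ((OneEvenOrder.psl_range_odd (l := l) ha e _).2 (Or.inr (Or.inl dvd_rfl)))

end Cfsg.Agent.ThreeOrders
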