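import Mathlib

/-!
# The norm of a fixed point free operator

If `c` normalises `E` with `C_E(c^i) = 1` and the norm `∏ i < n, c^i v` vanishes on an abelian
`F`-group, then `E` fixes every `|E|`-th power.
-/

set_option autoImplicit false

namespace Cfsg.Agent.ThreeOrders

open Finset
open scoped IsMulCommutative

universe u v

theorem prod_conj_eq_pow {M : Type u} [CommGroup M] {F : Type v} [Group F] (φ : F →* MulAut M)
    (E : Subgroup F) [Fintype E] (c : F) (m : ℕ) (hE : ∀ e ∈ E, c * e * c⁻¹ ∈ E)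
    (hfix : ∀ i, 0 < i → i < m + 1 → ∀ e ∈ E, Commute (c ^ i) e → e = 1)
    (hN : ∀ v : M, ∏ i ∈ range (m + 1), φ (c ^ i) v = 1) (v : M) :
    ∏ e : E, φ e v = v ^ Fintype.card E := by
  have hE' : ∀ i : ℕ, ∀ e ∈ E, c ^ i * e * (c ^ i)⁻¹ ∈ E := fun i => by
    induction i with
    | zero => intro e he; simpa using he
    | succ i ih =>
      intro e he
      have h1 : c ^ (i + 1) * e * (c ^ (i + 1))⁻¹ = c * (c ^ i * e * (c ^ i)⁻¹) * c⁻¹ := by
        rw [pow_succ']; group
      exact h1 ▸ hE _ (ih e he)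
  have key : ∀ i, i < m → ∏ x : E, φ ((x : F) * c ^ (i + 1) * (x : F)⁻¹) v =
      ∏ e : E, φ ((e : F) * c ^ (i + 1)) v := by
    intro i hi
    let f : E → E := fun x =>
      ⟨x * (c ^ (i + 1) * (x : F)⁻¹ * (c ^ (i + 1))⁻¹), mul_mem x.2 (hE' _ _ (inv_mem x.2))⟩
    have hf : Function.Injective f := by
      intro x y hxy
      have h1 : (x : F) * (c ^ (i + 1) * (x : F)⁻¹ * (c ^ (i + 1))⁻¹) =
          (y : F) * (c ^ (i + 1) * (y : F)⁻¹ * (c ^ (i + 1))⁻¹) := congrArg Subtype.val hxy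
      have h2 := hfix (i + 1) i.succ_pos (by omega) _ (mul_mem (inv_mem y.2) x.2) (by
        show c ^ (i + 1) * ((y : F)⁻¹ * x) = (y : F)⁻¹ * x * c ^ (i + 1)
        generalize c ^ (i + 1) = z at h1 ⊢
        calc z * ((y : F)⁻¹ * x) = (y : F)⁻¹ * ((y : F) * (z * (y : F)⁻¹ * z⁻¹)) * z * x := by group
          _ = (y : F)⁻¹ * ((x : F) * (z * (x : F)⁻¹ * z⁻¹)) * z * x := by rw [h1]
          _ = _ := by group)
      exact Subtype.ext (inv_mul_eq_one.1 h2).symm
    refine Fintype.prod_bijective f hf.bijective_of_finite _ _ fun x => ?_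
    show φ _ v = φ (_ * c ^ (i + 1)) v
    congr 2
    show _ = (x : F) * (c ^ (i + 1) * (x : F)⁻¹ * (c ^ (i + 1))⁻¹) * c ^ (i + 1)
    group
  have h1 : (∏ i ∈ range m, ∏ e : E, φ ((e : F) * c ^ (i + 1)) v) * v ^ Fintype.card E = 1 := by
    have h := Finset.prod_eq_one (s := (univ : Finset E))
      (f := fun x : E => φ (x : F) (∏ i ∈ range (m + 1), φ (c ^ i) (φ (x : F)⁻¹ v)))
      fun x _ => by rw [hN, map_one]
    simp only [map_prod] at h
    rw [Finset.prod_comm, Finset.prod_range_succ', pow_zero] at h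
    simp only [← MulAut.mul_apply, ← map_mul, ← mul_assoc, mul_one, mul_inv_cancel, map_one,
      MulAut.one_apply, Finset.prod_const, Finset.card_univ] at h
    rwa [Finset.prod_congr rfl fun i hi => key i (Finset.mem_range.1 hi)] at h
  have h2 : (∏ i ∈ range m, ∏ e : E, φ ((e : F) * c ^ (i + 1)) v) * ∏ e : E, φ (e : F) v = 1 := by
    have h := Finset.prod_eq_one (s := (univ : Finset E))
      (f := fun x : E => φ (x : F) (∏ i ∈ range (m + 1), φ (c ^ i) v)) fun x _ => by rw [hN, map_one]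
    simp only [map_prod] at h
    rw [Finset.prod_comm, Finset.prod_range_succ', pow_zero] at h
    simp only [← MulAut.mul_apply, ← map_mul, mul_one] at h
    exact h
  exact mul_left_cancel (h2.trans h1.symm)

/-- The subgroup fixes every `|E|`-th power. -/
theorem apply_pow_card_of_norm {M : Type u} [CommGroup M] {F : Type v} [Group F]
    (φ : F →* MulAut M) (E : Subgroup F) [Finite E] (c : F) (n : ℕ) (hn : 0 < n)
    (hE : ∀ e ∈ E, c * e * c⁻¹ ∈ E)
    (hfix : ∀ i, 0 < i → i < n → ∀ e ∈ E, Commute (c ^ i) e → e = 1)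
    (hN : ∀ v : M, ∏ i ∈ range n, φ (c ^ i) v = 1) {e : F} (he : e ∈ E) (v : M) :
    φ e (v ^ Nat.card E) = v ^ Nat.card E := by
  haveI := Fintype.ofFinite E
  obtain ⟨m, rfl⟩ : ∃ m, n = m + 1 := ⟨n - 1, by omega⟩
  rw [Nat.card_eq_fintype_card, ← prod_conj_eq_pow φ E c m hE hfix hN v, map_prod]
  refine Fintype.prod_bijective (fun x : E => ⟨e, he⟩ * x) (Group.mulLeft_bijective _) _ _ fun x => ?_
  rw [← MulAut.mul_apply, ← map_mul]
  rfl

/-- Coprime form: the subgroup acts trivially. -/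
theorem apply_eq_of_norm {M : Type u} [CommGroup M] [Finite M] {F : Type v} [Group F]
    (φ : F →* MulAut M) (E : Subgroup F) [Finite E] (c : F) (n : ℕ) (hn : 0 < n)
    (hE : ∀ e ∈ E, c * e * c⁻¹ ∈ E)
    (hfix : ∀ i, 0 < i → i < n → ∀ e ∈ E, Commute (c ^ i) e → e = 1)
    (hN : ∀ v : M, ∏ i ∈ range n, φ (c ^ i) v = 1) (hco : (Nat.card M).Coprime (Nat.card E))
    {e : F} (he : e ∈ E) (v : M) : φ e v = v := by
  obtain ⟨w, rfl⟩ := (powCoprime hco).surjective v
  exact apply_pow_card_of_norm φ E c n hn hE hfix hN he w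

/-- Powers of `v * g` for `v` in a normal subgroup. -/
theorem coe_mul_pow {G : Type u} [Group G] (V : Subgroup G) [V.Normal] [IsMulCommutative V]
    (v : V) (g : G) (k : ℕ) : ((v : G) * g) ^ k = ((∏ i ∈ range k, MulAut.conjNormal (g ^ i) v : V) : G) * g ^ k := by
  induction k with
  | zero => simp
  | succ k ih =>
    rw [Finset.prod_range_succ, pow_succ, ih, Subgroup.coe_mul, MulAut.conjNormal_apply]
    group

end Cfsg.Agent.ThreeOrders
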