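import Cfsg.Agent.Lib.EPPO.Structure

/-!
# The socle when no nonsolvable subgroup has a nontrivial centraliser
-/

set_option autoImplicit false
set_option linter.style.haveILetI false

open Subgroup

namespace Cfsg.Agent.ThreeOrders

universe u

variable {G : Type u} [Group G]

/-- With trivial radical and no centraliser of a nonsolvable subgroup the group is almost simple. -/
theorem exists_simple_normal [Finite G] [Nontrivial G]
    (hcomm : ∀ A B : Subgroup G, ¬ Group.IsSolvable B → A ≤ centralizer (B : Set G) → A = ⊥)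
    (hrad : ∀ N : Subgroup G, N.Normal → Group.IsSolvable N → N = ⊥) :
    ∃ S : Subgroup G, S.Normal ∧ IsSimpleGroup S ∧ ¬ Group.IsSolvable S ∧ centralizer (S : Set G) = ⊥ := by
  obtain ⟨S, hS⟩ := Set.Finite.exists_minimal (Set.toFinite {N : Subgroup G | N.Normal ∧ N ≠ ⊥})
    ⟨⊤, inferInstance, top_ne_bot⟩
  haveI := hS.1.1
  have hns : ¬ Group.IsSolvable S := fun hs => hS.1.2 (hrad S hS.1.1 hs)
  refine ⟨S, hS.1.1, ?_, hns, hcomm _ _ hns le_rfl⟩
  haveI : Nontrivial S := (Subgroup.nontrivial_iff_ne_bot S).2 hS.1.2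
  refine ⟨fun T hT => or_iff_not_imp_left.2 fun hT0 => ?_⟩
  obtain ⟨U, hUT, hU⟩ := Set.Finite.exists_minimal (Set.toFinite {N : Subgroup S | N.Normal ∧ N ≠ ⊥ ∧ N ≤ T})
    ⟨T, hT, hT0, le_rfl⟩ |>.elim fun U hU => (⟨U, hU.1.2.2, hU⟩ : ∃ U, U ≤ T ∧ _)
  have hUn : U.Normal := hU.1.1
  set V : Subgroup G := U.map S.subtype with hV
  have hVS : V ≤ S := Subgroup.map_subtype_le _
  have hV0 : V ≠ ⊥ := by
    rw [hV, Ne, Subgroup.map_eq_bot_iff_of_injective _ S.subtype_injective]
    exact hU.1.2.1
  -- no solvable normal subgroup of `S`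
  have hUns : ¬ Group.IsSolvable U := by
    intro hUs
    -- the join of the conjugates of `U` is solvable and normal
    obtain ⟨W, hW⟩ := Set.Finite.exists_maximal
      (Set.toFinite {N : Subgroup S | N.Normal ∧ Group.IsSolvable N}) ⟨U, hUn, hUs⟩
    haveI := hW.1.1
    haveI := hW.1.2
    have huniq : ∀ N : Subgroup S, N.Normal → Group.IsSolvable N → N ≤ W := by
      intro N hN hNs
      haveI := hN
      haveI := hNs
      have hsol : Group.IsSolvable ↥(N ⊔ W) := by
        refine solvable_of_ker_le_range (Subgroup.inclusion (le_sup_right : W ≤ N ⊔ W))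
          ((QuotientGroup.mk' W).comp (N ⊔ W).subtype).rangeRestrict ?_ (G'' := _) (hG' := inferInstance)
          (hG'' := ?_)
        · intro x hx
          rw [MonoidHom.ker_rangeRestrict, MonoidHom.mem_ker] at hx
          exact ⟨⟨x, (QuotientGroup.eq_one_iff _).1 hx⟩, Subtype.ext rfl⟩
        · rw [MonoidHom.range_comp, Subgroup.range_subtype, Subgroup.map_sup, QuotientGroup.map_mk'_self,
            sup_bot_eq]
          exact solvable_of_surjective ((QuotientGroup.mk' W).subgroupMap_surjective N)
      exact le_sup_left.trans (hW.eq_of_ge ⟨inferInstance, hsol⟩ le_sup_right).le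
    haveI : W.Characteristic := Subgroup.characteristic_iff_map_le.2 fun φ =>
      huniq _ (hW.1.1.map _ φ.surjective) (solvable_of_surjective (φ.toMonoidHom.subgroupMap_surjective W))
    have hW0 : W.map S.subtype = ⊥ := hrad _ inferInstance
      (solvable_of_surjective (S.subtype.subgroupMap_surjective W))
    rw [Subgroup.map_eq_bot_iff_of_injective _ S.subtype_injective] at hW0
    exact hU.1.2.1 (le_bot_iff.1 ((huniq U hUn hUs).trans hW0.le))
  have hVns : ¬ Group.IsSolvable V := fun hs => hUns
    (solvable_of_surjective (f := (U.equivMapOfInjective _ S.subtype_injective).symm.toMonoidHom)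
      (U.equivMapOfInjective _ S.subtype_injective).symm.surjective)
  have hVnorm : ∀ g : G, V.map (MulAut.conj g).toMonoidHom = V := by
    intro g
    set φ : S ≃* S := MulAut.conjNormal g with hφ
    have e : V.map (MulAut.conj g).toMonoidHom = (U.map φ.toMonoidHom).map S.subtype := by
      rw [hV, Subgroup.map_map, Subgroup.map_map]
      congr 1
    haveI hU' : (U.map φ.toMonoidHom).Normal := hUn.map _ φ.surjective
    by_contra hne
    have hne' : U.map φ.toMonoidHom ≠ U := fun e' => hne (by rw [e, e'])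
    have hint : U.map φ.toMonoidHom ⊓ U = ⊥ := by
      by_contra hi
      have h1 := hU.eq_of_le ⟨inferInstance, hi, inf_le_right.trans hUT⟩ inf_le_right
      have h2 : U ≤ U.map φ.toMonoidHom := h1.ge.trans inf_le_left
      have hc : Nat.card (U.map φ.toMonoidHom) = Nat.card U :=
        Subgroup.card_map_of_injective φ.injective
      exact hne' (Subgroup.eq_of_le_of_card_ge h2 hc.le).symm
    have hle : V.map (MulAut.conj g).toMonoidHom ≤ centralizer (V : Set G) := by
      rw [e, hV]
      rintro _ ⟨x, hx, rfl⟩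
      rw [mem_centralizer_iff]
      rintro _ ⟨y, hy, rfl⟩
      exact congrArg S.subtype
        (Subgroup.commute_of_normal_of_disjoint U _ hUn hU' (disjoint_iff.2 (inf_comm U _ ▸ hint)) y x hy hx).eq
    have h0 := hcomm _ _ hVns hle
    exact hV0 ((Subgroup.map_eq_bot_iff_of_injective _ (MulAut.conj g).injective).1 h0)
  have hVn : V.Normal := ⟨fun x hx g => hVnorm g ▸ ⟨x, hx, rfl⟩⟩
  have hVeq : V = S := hS.eq_of_le ⟨hVn, hV0⟩ hVS
  rw [eq_top_iff]
  intro x _
  obtain ⟨y, hy, e⟩ := hVeq.ge x.2
  exact hUT (Subtype.ext e ▸ hy)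

end Cfsg.Agent.ThreeOrders
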