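import Cfsg.Agent.Lib.ThreeOrders.Basic
import Cfsg.Agent.Lib.ThreeOrders.Norm
import Cfsg.Agent.Lib.Solvable.Basic
import Cfsg.Agent.Lib.Cores.Basic

/-!
# The radical of a nonsolvable group without three orders on a prime

* `TO.radical_le` : a normal solvable subgroup lies in `O_2(G)`
* `TO.exists_simple_normal` : modulo `O_2(G)` the group is almost simple
-/

set_option autoImplicit false
set_option linter.style.haveILetI false
set_option linter.unusedSectionVars false

namespace Cfsg.Agent.ThreeOrders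

open Subgroup Finset
open scoped IsMulCommutative

universe u v

variable {G : Type u} [Group G] [Finite G]

/-- An element of prime order is the image of an element of prime power order. -/
theorem exists_lift_prime {H : Type v} [Group H] (f : G →* H) (g0 : G) {q : ℕ} (hq : q.Prime)
    (ho : orderOf (f g0) = q) : ∃ g : G, ∃ k : ℕ, f g = f g0 ∧ orderOf g = q ^ (k + 1) := by
  obtain ⟨k, m, hqm, hm⟩ := Nat.exists_eq_pow_mul_and_not_dvd (orderOf_pos g0).ne' q hq.ne_one
  obtain ⟨j, hj⟩ := exists_pow_eq_self_of_coprime (x := f g0) (n := m)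
    (ho ▸ ((hq.coprime_iff_not_dvd).2 hqm).symm)
  have h1 : f ((g0 ^ m) ^ j) = f g0 := by rw [map_pow, map_pow, hj]
  have h2 : orderOf ((g0 ^ m) ^ j) ∣ q ^ k := orderOf_dvd_of_pow_eq_one (by
    rw [← pow_mul, ← pow_mul, show m * (j * q ^ k) = q ^ k * m * j by ring, ← hm, pow_mul,
      pow_orderOf_eq_one, one_pow])
  obtain ⟨i, -, hi⟩ := (Nat.dvd_prime_pow hq).1 h2
  rcases i with _ | i
  · rw [pow_zero, orderOf_eq_one_iff] at hi
    rw [hi, map_one] at h1
    rw [← h1, orderOf_one] at ho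
    exact absurd ho.symm hq.ne_one
  · exact ⟨_, i, h1, hi⟩

/-- There is no normal abelian subgroup of odd prime exponent. -/
theorem TO.no_normal_odd_abelian (h : TO G) (hns : ¬ Group.IsSolvable G) {r : ℕ} (hr : r.Prime)
    (hr2 : r ≠ 2) (V : Subgroup G) [V.Normal] [IsMulCommutative V] (hV : ∀ x ∈ V, x ^ r = 1) :
    V = ⊥ := by
  by_contra hV0
  haveI := Fact.mk hr
  haveI : Nontrivial V := (Subgroup.nontrivial_iff_ne_bot V).2 hV0
  have hord : ∀ v : V, v ≠ 1 → orderOf v = r := fun v hv =>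
    orderOf_eq_prime (Subtype.ext (by rw [Subgroup.coe_pow, hV v v.2, Subgroup.coe_one])) hv
  let f : G →* MulAut V := MulAut.conjNormal
  have hcomm : ∀ (g : G) (v : V), f g v = v → Commute g (v : G) := fun g v e => by
    have := congrArg (fun w : V => (w : G)) e
    simp only [f, MulAut.conjNormal_apply] at this
    exact mul_inv_eq_iff_eq_mul.1 this
  have hns' : ¬ Group.IsSolvable f.range := fun hs => by
    haveI := hs
    by_cases hk : Group.IsSolvable f.ker
    · haveI := hk
      exact hns (Group.isSolvable_of_ker_le_range f.ker.subtype f.rangeRestrict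
        (by rw [MonoidHom.ker_rangeRestrict, Subgroup.range_subtype]))
    · refine hV0 (h.eq_bot_of_commute hk fun v hv => mem_centralizer_iff.2 fun g hg => ?_)
      exact hcomm g ⟨v, hv⟩ (by rw [MonoidHom.mem_ker.1 hg]; rfl)
  obtain ⟨E, c, q, hq, hq2, hc, hE0, hE2, -, hcE, hfix⟩ :=
    (h.of_surjective f.rangeRestrict f.rangeRestrict_surjective).exists_frob hns'
  haveI := Fact.mk hq
  haveI : Fact (Nat.Prime 2) := ⟨Nat.prime_two⟩
  obtain ⟨g0, hg0⟩ := f.rangeRestrict_surjective c
  obtain ⟨g, k, hgc, hgo⟩ := exists_lift_prime f.rangeRestrict g0 hq (by rw [hg0, hc])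
  rw [hg0] at hgc
  -- an element of order `2 r`
  obtain ⟨e, heE, he1, v1, hv1, hev⟩ :
      ∃ e ∈ E, e ≠ 1 ∧ ∃ v : V, v ≠ 1 ∧ (e : MulAut V) v = v := by
    by_contra hcon
    push Not at hcon
    obtain ⟨e, heE, he1⟩ := (Subgroup.ne_bot_iff_exists_ne_one.1 hE0 |>.elim
      fun e he => (⟨e, e.2, fun h' => he (Subtype.ext h')⟩ : ∃ e ∈ E, e ≠ 1))
    have hneg : ∀ e ∈ E, e ≠ 1 → ∀ v : V, (e : MulAut V) v = v⁻¹ := fun e heE he1 v => by
      have h1 : (e : MulAut V) ((e : MulAut V) v) = v := by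
        rw [← MulAut.mul_apply, ← Subgroup.coe_mul, hE2 e heE]; rfl
      have h2 : (e : MulAut V) (v * (e : MulAut V) v) = v * (e : MulAut V) v := by
        rw [map_mul, h1, mul_comm]
      by_contra hne
      exact hcon e heE he1 _ (fun h3 => hne (eq_inv_of_mul_eq_one_right h3)) h2
    have he' : c * e * c⁻¹ ∈ E := (mem_normalizer_iff.1 hcE e).1 heE
    have he'1 : c * e * c⁻¹ ≠ 1 := fun h' => he1 (by simpa using h')
    have hne : e * (c * e * c⁻¹) ≠ 1 := fun h' => he1 (hfix e heE (by
      rw [eq_inv_of_mul_eq_one_right h', inv_eq_of_mul_eq_one_right (hE2 e heE)]))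
    obtain ⟨v, hv⟩ := exists_ne (1 : V)
    refine hcon _ (mul_mem heE he') hne v hv ?_
    rw [Subgroup.coe_mul, MulAut.mul_apply, hneg _ he' he'1, hneg e heE he1, inv_inv]
  obtain ⟨g1, hg1⟩ := f.rangeRestrict_surjective e
  obtain ⟨g2, j, hg2e, hg2o⟩ := exists_lift_prime f.rangeRestrict g1 Nat.prime_two (by
    rw [hg1]; exact orderOf_eq_prime (by rw [sq]; exact hE2 e heE) he1)
  have hfe : f g2 v1 = v1 := by
    rw [← MonoidHom.coe_rangeRestrict, hg2e, hg1]; exact hev
  obtain ⟨x, hx⟩ : ∃ x : G, orderOf x = 2 * r :=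
    ⟨g2 ^ 2 ^ j * (v1 : G), orderOf_mul_primes Nat.prime_two hr hr2.symm
      ((hcomm _ _ hfe).pow_left _) (by
        have h' := orderOf_pow_orderOf_div (orderOf_pos g2).ne' (show 2 ∣ orderOf g2 from hg2o ▸ dvd_pow_self 2 j.succ_ne_zero)
        rwa [hg2o, show 2 ^ (j + 1) / 2 = 2 ^ j by rw [pow_succ, Nat.mul_div_cancel _ two_pos]] at h')
      (by rw [orderOf_coe, hord v1 hv1])⟩
  have hxr : orderOf x ≠ r := by rw [hx]; have := hr.pos; omega
  -- the norm is not trivial
  obtain ⟨w, hw⟩ : ∃ w : V, ∏ i ∈ range q, ((c ^ i : f.range) : MulAut V) w ≠ 1 := by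
    by_contra hN
    push Not at hN
    have hcard : ∀ {p : ℕ}, p.Prime → p ∣ Nat.card V → p = r := fun {p} hp hd => by
      haveI := Fact.mk hp
      obtain ⟨v, hv⟩ := exists_prime_orderOf_dvd_card' p hd
      rw [← hv, hord v fun e' => hp.ne_one (by rw [← hv, e', orderOf_one])]
    obtain ⟨n, hn⟩ : ∃ n, Nat.card E = 2 ^ n := IsPGroup.exists_card_eq fun x =>
      ⟨1, Subtype.ext (by rw [pow_one, sq]; exact hE2 x x.2)⟩
    have hcop : (Nat.card V).Coprime (Nat.card E) := by
      rw [hn]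
      exact Nat.Coprime.pow_right _
        (Nat.prime_two.coprime_iff_not_dvd.2 fun hd => hr2 (hcard Nat.prime_two hd).symm).symm
    refine he1 (Subtype.ext (MulEquiv.ext fun v => apply_eq_of_norm f.range.subtype E c q hq.pos
      (fun a ha => (mem_normalizer_iff.1 hcE a).1 ha) (fun i hi hiq a ha hia => ?_) hN hcop heE v))
    obtain ⟨m, hm⟩ := exists_pow_eq_self_of_coprime (x := c) (n := i)
      (by rw [hc]; exact ((hq.coprime_iff_not_dvd).2 (Nat.not_dvd_of_pos_of_lt hi hiq)).symm)
    exact hfix a ha (by rw [mul_inv_eq_iff_eq_mul]; exact hm ▸ (hia.pow_left m).eq)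
  set W : V := ∏ i ∈ range q, ((c ^ i : f.range) : MulAut V) w with hW
  have hWo : orderOf (W : G) = r := by rw [orderOf_coe, hord W hw]
  have hfg : f g = (c : MulAut V) := by rw [← hgc]; rfl
  by_cases hqr : q = r
  · subst hqr
    -- no element of order `r ^ 2`
    have hno : ∀ y : G, orderOf y ≠ q ^ 2 := fun y hy => by
      have h1 := h.pair hq (x := x) (y := y) (hx ▸ dvd_mul_left q 2) (hy ▸ dvd_pow_self q two_ne_zero)
        hxr (by rw [hy, sq]; exact fun e' => hq.ne_one (Nat.eq_of_mul_eq_mul_left hq.pos (e'.trans (mul_one q).symm)))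
      rw [hx, hy, sq] at h1
      exact hq2 (Nat.eq_of_mul_eq_mul_right hq.pos h1).symm
    rcases k with _ | k
    · rw [zero_add, pow_one] at hgo
      have h1 := coe_mul_pow V w g q
      have h2 : ∏ i ∈ range q, MulAut.conjNormal (g ^ i) w = W := Finset.prod_congr rfl fun i _ => by
        rw [Subgroup.coe_pow, ← hfg, ← map_pow]
      rw [h2, show g ^ q = 1 by rw [← hgo, pow_orderOf_eq_one], mul_one] at h1
      refine hno ((w : G) * g) (orderOf_eq_prime_pow ?_ ?_)
      · rw [pow_one, h1]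
        exact fun e' => hw (Subtype.ext e')
      · rw [sq, pow_mul, h1, hV _ W.2]
    · refine hno (g ^ q ^ k) ?_
      rw [orderOf_pow' g (pow_ne_zero _ hq.ne_zero), hgo,
        Nat.gcd_eq_right (pow_dvd_pow q (by omega)), Nat.pow_div (by omega) hq.pos]
      congr 1
      omega
  · have hcW : (c : MulAut V) W = W := by
      have hcq : c ^ q = 1 := by rw [← hc, pow_orderOf_eq_one]
      obtain ⟨m, hm⟩ : ∃ m, q = m + 1 := ⟨q - 1, by have := hq.pos; omega⟩
      subst hm
      rw [hW, map_prod]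
      conv_rhs => rw [Finset.prod_range_succ', pow_zero]
      rw [Finset.prod_range_succ]
      simp only [← MulAut.mul_apply, ← Subgroup.coe_mul, ← pow_succ', hcq]
    have h1 := orderOf_mul_primes hq hr hqr
      (((hcomm g W (by rw [hfg]; exact hcW)).pow_left (q ^ k))) (by
        have h' := orderOf_pow_orderOf_div (orderOf_pos g).ne' (show q ∣ orderOf g from hgo ▸ dvd_pow_self q k.succ_ne_zero)
        rwa [hgo, show q ^ (k + 1) / q = q ^ k by rw [pow_succ, Nat.mul_div_cancel _ hq.pos]] at h') hWo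
    have h2 := h.pair hr (x := x) (y := g ^ q ^ k * (W : G)) (hx ▸ dvd_mul_left r 2)
      (h1 ▸ dvd_mul_left r q) hxr (by
        rw [h1]; exact fun e' => hq.ne_one (Nat.eq_of_mul_eq_mul_right hr.pos (e'.trans (one_mul r).symm)))
    rw [hx, h1] at h2
    exact hq2 (Nat.eq_of_mul_eq_mul_right hr.pos h2).symm

/-- A normal solvable subgroup lies in `O_2`. -/
theorem TO.radical_le (h : TO G) (hns : ¬ Group.IsSolvable G) (R : Subgroup G) [R.Normal]
    [Group.IsSolvable R] : R ≤ Cfsg.pCore 2 G := by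
  haveI : Fact (Nat.Prime 2) := ⟨Nat.prime_two⟩
  set K := Cfsg.pCore 2 G with hK
  by_contra hRK
  haveI : (R.map (QuotientGroup.mk' K)).Normal :=
    Subgroup.Normal.map inferInstance _ (QuotientGroup.mk'_surjective K)
  haveI : Group.IsSolvable (R.map (QuotientGroup.mk' K)) :=
    solvable_of_surjective ((QuotientGroup.mk' K).subgroupMap_surjective R)
  have hne : R.map (QuotientGroup.mk' K) ≠ ⊥ := fun e => hRK (by
    rwa [Subgroup.map_eq_bot_iff, QuotientGroup.ker_mk'] at e)
  obtain ⟨r, hr, V, hVn, hV0, -, hVc, hVp, hVr, -⟩ := Solvable.exists_minimal_normal_pGroup hne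
  haveI := hVn
  haveI := hVc
  have hKp : IsPGroup 2 K := Cores.isPGroup_pCore 2 G
  refine hV0 ((h.of_surjective _ (QuotientGroup.mk'_surjective K)).no_normal_odd_abelian ?_ hr ?_ V hVr)
  · intro hs
    haveI := hs
    haveI := hKp.isNilpotent
    exact hns (Group.isSolvable_of_ker_le_range K.subtype (QuotientGroup.mk' K)
      (by rw [QuotientGroup.ker_mk', Subgroup.range_subtype]))
  · rintro rfl
    have hle : V.comap (QuotientGroup.mk' K) ≤ K := Cores.le_pCore (hVn.comap _)
      (hVp.comap_of_ker_isPGroup _ (by rw [QuotientGroup.ker_mk']; exact hKp))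
    apply hV0
    rw [← Subgroup.map_comap_eq_self_of_surjective (QuotientGroup.mk'_surjective K) V, eq_bot_iff,
      ← QuotientGroup.map_mk'_self K]
    exact Subgroup.map_mono hle

end Cfsg.Agent.ThreeOrders
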